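import Mathlib
import Cfsg.Agent.H953.Cyclic

/-!
# Cyclic decompositions of an endomorphism and the canonical multiset of its primary blocks

`IsCyc T g v` : `V = ⨁ F[T] v_i`, `F[T] v_i ≅ F[X] / (g_i)`.

* `finrank_ker_aeval` : `dim ker f(T) = ∑ deg gcd(f, g_i)`;
* `IsDec T p e v` : the primary decompositions; `exists_dec`;
* `exists_equiv_of_finrank` : `T`, `T'` are similar if `dim ker φ(T)^j = dim ker φ(T')^j`.
-/

set_option autoImplicit false

namespace Cfsg.Agent.H152

open Polynomial

variable {F : Type*} [Field F] {V : Type*} [AddCommGroup V] [Module F V]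

/-- `V` is the direct sum of the `F[T] v_i`, and `F[T] v_i ≅ F[X] / (g_i)`. -/
structure IsCyc (T : Module.End F V) {ι : Type*} [Fintype ι] (g : ι → F[X]) (v : ι → V) : Prop where
  span : ∀ m : V, ∃ f : ι → F[X], m = ∑ i, aeval T (f i) (v i)
  ind : ∀ f : ι → F[X], ∑ i, aeval T (f i) (v i) = 0 ↔ ∀ i, g i ∣ f i

/-- The evaluation map `(F[X])^ι → V`. -/
noncomputable def evalMap (T : Module.End F V) {ι : Type*} [Fintype ι] (v : ι → V) :
    (ι → F[X]) →ₗ[F] V :=
  ∑ i, ((LinearMap.applyₗ (v i)).comp (aeval T).toLinearMap).comp (LinearMap.proj i)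

theorem evalMap_apply (T : Module.End F V) {ι : Type*} [Fintype ι] (v : ι → V) (f : ι → F[X]) :
    evalMap T v f = ∑ i, aeval T (f i) (v i) := by
  simp [evalMap, LinearMap.sum_apply]

/-- The reduction map `(F[X])^ι → ∏ F[X] / (g_i)`. -/
noncomputable def redMap {ι : Type*} (g : ι → F[X]) :
    (ι → F[X]) →ₗ[F] (∀ i, AdjoinRoot (g i)) :=
  LinearMap.pi fun i => ((AdjoinRoot.mkₐ (g i)).toLinearMap.restrictScalars F).comp (LinearMap.proj i)

theorem redMap_apply {ι : Type*} (g : ι → F[X]) (f : ι → F[X]) (i : ι) :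
    redMap g f i = AdjoinRoot.mk (g i) (f i) := rfl

theorem redMap_surjective {ι : Type*} (g : ι → F[X]) : Function.Surjective (redMap g) := by
  intro x
  choose f hf using fun i => AdjoinRoot.mk_surjective (x i)
  exact ⟨f, funext fun i => by rw [redMap_apply, hf]⟩

section

variable {T : Module.End F V} {ι : Type*} [Fintype ι] {g : ι → F[X]} {v : ι → V}

theorem IsCyc.evalMap_surjective (h : IsCyc T g v) : Function.Surjective (evalMap T v) := by
  intro m
  obtain ⟨f, hf⟩ := h.span m
  exact ⟨f, by rw [evalMap_apply, hf]⟩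

theorem IsCyc.ker_eq (h : IsCyc T g v) : LinearMap.ker (evalMap T v) = LinearMap.ker (redMap g) := by
  ext f
  rw [LinearMap.mem_ker, LinearMap.mem_ker, evalMap_apply, h.ind, funext_iff]
  refine forall_congr' fun i => ?_
  rw [redMap_apply, Pi.zero_apply, AdjoinRoot.mk_eq_zero]

/-- The isomorphism `V ≅ ∏ F[X] / (g_i)`. -/
noncomputable def IsCyc.equiv (h : IsCyc T g v) : V ≃ₗ[F] (∀ i, AdjoinRoot (g i)) :=
  ((evalMap T v).quotKerEquivOfSurjective h.evalMap_surjective).symm.trans
    ((Submodule.quotEquivOfEq _ _ h.ker_eq).trans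
      ((redMap g).quotKerEquivOfSurjective (redMap_surjective g)))

theorem IsCyc.equiv_evalMap (h : IsCyc T g v) (f : ι → F[X]) :
    h.equiv (evalMap T v f) = redMap g f := by
  have h1 : ((evalMap T v).quotKerEquivOfSurjective h.evalMap_surjective).symm (evalMap T v f) =
      Submodule.Quotient.mk f := by
    rw [LinearEquiv.symm_apply_eq]
    rfl
  rw [IsCyc.equiv, LinearEquiv.trans_apply, h1, LinearEquiv.trans_apply]
  rfl

theorem IsCyc.equiv_aeval (h : IsCyc T g v) (f : F[X]) (x : V) (i : ι) :
    h.equiv (aeval T f x) i = AdjoinRoot.mk (g i) f * h.equiv x i := by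
  obtain ⟨u, rfl⟩ := h.evalMap_surjective x
  have : aeval T f (evalMap T v u) = evalMap T v (fun i => f * u i) := by
    rw [evalMap_apply, evalMap_apply, map_sum]
    refine Finset.sum_congr rfl fun i _ => ?_
    rw [map_mul, Module.End.mul_apply]
  rw [this, h.equiv_evalMap, h.equiv_evalMap, redMap_apply, redMap_apply, map_mul]

/-- The kernel of `f(T)` is the product of the kernels on the summands. -/
theorem IsCyc.finrank_ker (h : IsCyc T g v) (hg : ∀ i, g i ≠ 0) (f : F[X]) :
    Module.finrank F (LinearMap.ker (aeval T f)) =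
      ∑ i, Module.finrank F (LinearMap.ker (LinearMap.mulLeft F (AdjoinRoot.mk (g i) f))) := by
  have hfin : ∀ i, Module.Finite F (AdjoinRoot (g i)) := fun i =>
    (AdjoinRoot.powerBasis (hg i)).finite
  let E : LinearMap.ker (aeval T f) ≃ₗ[F]
      (∀ i, LinearMap.ker (LinearMap.mulLeft F (AdjoinRoot.mk (g i) f))) :=
    { toFun := fun x i => ⟨h.equiv x i, by
        rw [LinearMap.mem_ker, LinearMap.mulLeft_apply, ← h.equiv_aeval, x.2]; simp⟩
      map_add' := fun x y => by ext i; simp
      map_smul' := fun c x => by ext i; simp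
      invFun := fun y => ⟨h.equiv.symm (fun i => (y i : AdjoinRoot (g i))), by
        rw [LinearMap.mem_ker]
        apply h.equiv.injective
        ext i
        rw [h.equiv_aeval, LinearEquiv.apply_symm_apply, map_zero, Pi.zero_apply]
        have := (y i).2
        rwa [LinearMap.mem_ker, LinearMap.mulLeft_apply] at this⟩
      left_inv := fun x => by
        apply Subtype.ext
        simp
      right_inv := fun y => by
        ext i
        simp }
  rw [E.finrank_eq, Module.finrank_pi_fintype]

end

/-- The kernel of multiplication by `f` on `F[X] / (g)` has dimension `deg gcd(f, g)`. -/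
theorem finrank_ker_mulLeft {g : F[X]} (hg : g ≠ 0) (f d : F[X])
    (hd : Ideal.span {d} = Ideal.span {f, g}) :
    Module.finrank F (LinearMap.ker (LinearMap.mulLeft F (AdjoinRoot.mk g f))) = d.natDegree := by
  have hfin : Module.Finite F (AdjoinRoot g) := (AdjoinRoot.powerBasis hg).finite
  have h1 := LinearMap.finrank_range_add_finrank_ker (LinearMap.mulLeft F (AdjoinRoot.mk g f))
  have h2 := Submodule.finrank_quotient_add_finrank
    (LinearMap.range (LinearMap.mulLeft F (AdjoinRoot.mk g f)))
  have h3 : Module.finrank F (AdjoinRoot g ⧸ LinearMap.range (LinearMap.mulLeft F (AdjoinRoot.mk g f)))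
      = d.natDegree := by
    rw [← finrank_quotient_span_eq_natDegree (K := F) (f := d)]
    symm
    apply LinearEquiv.finrank_eq
    -- `F[X] / (d) ≅ (F[X] / g) / (f)`
    let Φ : F[X] →ₗ[F] (AdjoinRoot g ⧸ LinearMap.range (LinearMap.mulLeft F (AdjoinRoot.mk g f))) :=
      (Submodule.mkQ _).comp (AdjoinRoot.mkₐ (R := F) g).toLinearMap
    have hΦ : Function.Surjective Φ :=
      (Submodule.mkQ_surjective _).comp AdjoinRoot.mk_surjective
    have hker : LinearMap.ker Φ = (Ideal.span {d} : Ideal F[X]).restrictScalars F := by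
      ext u
      rw [LinearMap.mem_ker, Submodule.restrictScalars_mem, hd, Ideal.mem_span_pair]
      change Submodule.Quotient.mk (AdjoinRoot.mk g u) = 0 ↔ _
      rw [Submodule.Quotient.mk_eq_zero, LinearMap.mem_range]
      constructor
      · rintro ⟨y, hy⟩
        obtain ⟨w, rfl⟩ := AdjoinRoot.mk_surjective y
        rw [LinearMap.mulLeft_apply, ← map_mul] at hy
        have : g ∣ u - f * w := by
          rw [← AdjoinRoot.mk_eq_mk]
          exact hy.symm
        obtain ⟨z, hz⟩ := this
        exact ⟨w, z, by linear_combination -hz⟩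
      · rintro ⟨a, b, hab⟩
        refine ⟨AdjoinRoot.mk g a, ?_⟩
        rw [LinearMap.mulLeft_apply, ← map_mul, AdjoinRoot.mk_eq_mk]
        exact ⟨-b, by linear_combination hab⟩
    exact (Submodule.quotEquivOfEq _ _ hker.symm).trans (Φ.quotKerEquivOfSurjective hΦ)
  omega

/-- Primary cyclic decompositions. -/
structure IsDec (T : Module.End F V) {ι : Type*} [Fintype ι] (p : ι → F[X]) (e : ι → ℕ)
    (v : ι → V) : Prop where
  monic : ∀ i, (p i).Monic
  irr : ∀ i, Irreducible (p i)
  pos : ∀ i, 0 < e i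
  cyc : IsCyc T (fun i => p i ^ e i) v

theorem exists_dec [FiniteDimensional F V] (T : Module.End F V) :
    ∃ (d : ℕ) (p : Fin d → F[X]) (e : Fin d → ℕ) (v : Fin d → V), IsDec T p e v := by
  obtain ⟨d, g, v, hg, h1, h2⟩ := Cfsg.Agent.H953.exists_cyclic T
  choose p e hp hirr he hge using hg
  refine ⟨d, p, e, v, hp, hirr, he, h1, ?_⟩
  intro f
  rw [h2]
  exact forall_congr' fun i => by rw [hge]

/-- The dimension of the kernel of a power of an irreducible polynomial. -/
theorem IsDec.finrank_ker_pow {T : Module.End F V} {ι : Type*} [Fintype ι] {p : ι → F[X]}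
    {e : ι → ℕ} {v : ι → V} (h : IsDec T p e v) {φ : F[X]} (hφ : φ.Monic) (hirr : Irreducible φ)
    (j : ℕ) [DecidableEq F[X]] :
    Module.finrank F (LinearMap.ker (aeval T (φ ^ j))) =
      ∑ i, if p i = φ then min j (e i) * φ.natDegree else 0 := by
  rw [h.cyc.finrank_ker (fun i => pow_ne_zero _ (h.irr i).ne_zero)]
  refine Finset.sum_congr rfl fun i _ => ?_
  by_cases hi : p i = φ
  · rw [if_pos hi, hi, finrank_ker_mulLeft (pow_ne_zero _ hirr.ne_zero) _ (φ ^ min j (e i)),
      hφ.natDegree_pow]
    rcases le_total j (e i) with hj | hj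
    · rw [min_eq_left hj, Ideal.span_pair_comm]
      symm
      rw [Ideal.span_pair_comm]
      apply le_antisymm
      · rw [Ideal.span_le]
        rintro x (rfl | rfl)
        · exact Ideal.mem_span_singleton_self _
        · exact Ideal.mem_span_singleton.mpr (pow_dvd_pow _ hj)
      · rw [Ideal.span_singleton_le_iff_mem]
        exact Ideal.subset_span (by simp)
    · rw [min_eq_right hj]
      symm
      apply le_antisymm
      · rw [Ideal.span_le]
        rintro x (rfl | rfl)
        · exact Ideal.mem_span_singleton.mpr (pow_dvd_pow _ hj)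
        · exact Ideal.mem_span_singleton_self _
      · rw [Ideal.span_singleton_le_iff_mem]
        exact Ideal.subset_span (by simp)
  · rw [if_neg hi, finrank_ker_mulLeft (pow_ne_zero _ (h.irr i).ne_zero) _ 1, natDegree_one]
    have hcop : IsCoprime (φ ^ j) (p i ^ e i) := by
      apply IsCoprime.pow
      rw [hirr.coprime_iff_not_dvd]
      intro hdvd
      apply hi
      exact (eq_of_monic_of_associated hφ (h.monic i)
        (hirr.associated_of_dvd (h.irr i) hdvd)).symm
    rw [Ideal.span_singleton_one]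
    obtain ⟨a, b, hab⟩ := hcop
    symm
    rw [Ideal.eq_top_iff_one, Ideal.mem_span_pair]
    exact ⟨a, b, hab⟩

/-- The number of blocks of type `(φ, j)` from the dimensions of the kernels. -/
theorem IsDec.card_mul {T : Module.End F V} {ι : Type*} [Fintype ι] {p : ι → F[X]}
    {e : ι → ℕ} {v : ι → V} (h : IsDec T p e v) {φ : F[X]} (hφ : φ.Monic) (hirr : Irreducible φ)
    (j : ℕ) [DecidableEq F[X]] :
    (Finset.univ.filter fun i => p i = φ ∧ e i = j + 1).card * φ.natDegree +
      (Module.finrank F (LinearMap.ker (aeval T (φ ^ j))) +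
        Module.finrank F (LinearMap.ker (aeval T (φ ^ (j + 2))))) =
      2 * Module.finrank F (LinearMap.ker (aeval T (φ ^ (j + 1)))) := by
  rw [h.finrank_ker_pow hφ hirr, h.finrank_ker_pow hφ hirr, h.finrank_ker_pow hφ hirr,
    Finset.card_filter, Finset.sum_mul, ← Finset.sum_add_distrib, ← Finset.sum_add_distrib,
    Finset.mul_sum]
  refine Finset.sum_congr rfl fun i _ => ?_
  by_cases hi : p i = φ
  · simp only [hi, true_and, if_true]
    by_cases he : e i = j + 1
    · rw [if_pos he, he, min_eq_left (by omega : j ≤ j + 1), min_eq_right (by omega : j + 1 ≤ j + 2),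
        min_self]
      ring
    · rw [if_neg he]
      rcases lt_or_gt_of_ne he with h1 | h1
      · rw [min_eq_right (by omega : e i ≤ j), min_eq_right (by omega : e i ≤ j + 2),
          min_eq_right (by omega : e i ≤ j + 1)]
        ring
      · rw [min_eq_left (by omega : j ≤ e i), min_eq_left (by omega : j + 2 ≤ e i),
          min_eq_left (by omega : j + 1 ≤ e i)]
        ring
  · simp [hi]

/-- Two finite families with the same fibre cardinalities are equivalent. -/
theorem exists_equiv_of_fiber {ι ι' β : Type*} [Fintype ι] [Fintype ι'] [DecidableEq β]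
    (f : ι → β) (f' : ι' → β)
    (h : ∀ b, (Finset.univ.filter fun i => f i = b).card = (Finset.univ.filter fun i => f' i = b).card) :
    ∃ σ : ι ≃ ι', ∀ i, f' (σ i) = f i := by
  have h1 : ∀ b, Nonempty ({i // f i = b} ≃ {i // f' i = b}) := by
    intro b
    rw [← Fintype.card_eq, Fintype.card_subtype, Fintype.card_subtype]
    exact h b
  refine ⟨(Equiv.sigmaFiberEquiv f).symm.trans ((Equiv.sigmaCongrRight fun b => (h1 b).some).trans
    (Equiv.sigmaFiberEquiv f')), ?_⟩
  intro i
  change f' ((h1 (f i)).some ⟨i, rfl⟩ : {i' // f' i' = f i}).1 = f i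
  exact ((h1 (f i)).some ⟨i, rfl⟩).2

/-- Decompositions with equal data give similar endomorphisms. -/
theorem IsCyc.similar {V' : Type*} [AddCommGroup V'] [Module F V'] {T : Module.End F V}
    {T' : Module.End F V'} {ι ι' : Type*} [Fintype ι] [Fintype ι'] {g : ι → F[X]} {g' : ι' → F[X]}
    {v : ι → V} {v' : ι' → V'} (h : IsCyc T g v) (h' : IsCyc T' g' v') (σ : ι ≃ ι')
    (hσ : ∀ i, g' (σ i) = g i) : ∃ E : V ≃ₗ[F] V', ∀ x, E (T x) = T' (E x) := by
  obtain ⟨w, hw⟩ : ∃ w : ι → V', w = v' ∘ σ := ⟨_, rfl⟩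
  have hw' : IsCyc T' g w := by
    constructor
    · intro m
      obtain ⟨f, hf⟩ := h'.span m
      refine ⟨f ∘ σ, ?_⟩
      rw [hf, hw]
      exact (Equiv.sum_comp σ (fun i => aeval T' (f i) (v' i))).symm
    · intro f
      have := h'.ind (f ∘ σ.symm)
      rw [← Equiv.sum_comp σ] at this
      simp only [Function.comp_apply, Equiv.symm_apply_apply] at this
      rw [hw]
      simp only [Function.comp_apply]
      rw [this]
      constructor
      · intro h1 i
        have := h1 (σ i)
        rwa [hσ, Equiv.symm_apply_apply] at this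
      · intro h1 i
        have := h1 (σ.symm i)
        rwa [← hσ, Equiv.apply_symm_apply] at this
  refine ⟨h.equiv.trans hw'.equiv.symm, ?_⟩
  intro x
  rw [LinearEquiv.trans_apply, LinearEquiv.trans_apply, LinearEquiv.symm_apply_eq]
  ext i
  have h1 : T x = aeval T (X : F[X]) x := by rw [aeval_X]
  have h2 : ∀ y, T' y = aeval T' (X : F[X]) y := fun y => by rw [aeval_X]
  rw [h1, h.equiv_aeval, h2, hw'.equiv_aeval, LinearEquiv.apply_symm_apply]

/-- **Similarity criterion**: two endomorphisms are similar if the kernels of `φ(T)^j` and `φ(T')^j` have the same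
dimension for all monic irreducible `φ` and all `j`. -/
theorem exists_equiv_of_finrank [FiniteDimensional F V] {V' : Type*} [AddCommGroup V'] [Module F V']
    [FiniteDimensional F V'] (T : Module.End F V) (T' : Module.End F V')
    (h : ∀ φ : F[X], φ.Monic → Irreducible φ → ∀ j : ℕ,
      Module.finrank F (LinearMap.ker (aeval T (φ ^ j))) =
        Module.finrank F (LinearMap.ker (aeval T' (φ ^ j)))) :
    ∃ E : V ≃ₗ[F] V', ∀ x, E (T x) = T' (E x) := by
  classical
  obtain ⟨d, p, e, v, hd⟩ := exists_dec T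
  obtain ⟨d', p', e', v', hd'⟩ := exists_dec T'
  obtain ⟨σ, hσ⟩ := exists_equiv_of_fiber (fun i => (p i, e i)) (fun i => (p' i, e' i)) (by
    rintro ⟨φ, j⟩
    simp only [Prod.mk.injEq]
    by_cases hφ : φ.Monic ∧ Irreducible φ
    · rcases j with _ | j
      · rw [Finset.filter_false_of_mem (fun i _ h0 => (hd.pos i).ne' h0.2),
          Finset.filter_false_of_mem (fun i _ h0 => (hd'.pos i).ne' h0.2)]
        rfl
      · have h1 := hd.card_mul hφ.1 hφ.2 j
        have h2 := hd'.card_mul hφ.1 hφ.2 j
        rw [← h φ hφ.1 hφ.2, ← h φ hφ.1 hφ.2, ← h φ hφ.1 hφ.2] at h2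
        have h3 : 0 < φ.natDegree := hφ.2.natDegree_pos
        exact Nat.eq_of_mul_eq_mul_right h3 (by omega)
    · rw [Finset.filter_false_of_mem (fun i _ (h0 : p i = φ ∧ e i = j) =>
          hφ (h0.1 ▸ ⟨hd.monic i, hd.irr i⟩)),
        Finset.filter_false_of_mem (fun i _ (h0 : p' i = φ ∧ e' i = j) =>
          hφ (h0.1 ▸ ⟨hd'.monic i, hd'.irr i⟩))]
      rfl)
  refine hd.cyc.similar hd'.cyc σ ?_
  intro i
  have := hσ i
  simp only [Prod.mk.injEq] at this
  rw [this.1, this.2]

end Cfsg.Agent.H152
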