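import Mathlib
import Cfsg.Agent.H152.ModelCount

/-!
# Bounds for the numbers `K (w (q + 1) q) r N`
-/

set_option autoImplicit false

namespace Cfsg.Agent.H152.Model

open Finset

theorem geom_le {t : ℝ} (h0 : 0 ≤ t) (h1 : t < 1) (M : ℕ) : ∑ i ∈ range M, t ^ i ≤ 1 / (1 - t) := by
  rw [le_div_iff₀ (by linarith), mul_comm]
  have := mul_neg_geom_sum t M
  rw [this]
  have : 0 ≤ t ^ M := pow_nonneg h0 M
  linarith

/-- The generating function of the letters. -/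
theorem sum_w_le (m q : ℕ) {x : ℝ} (hx : 0 ≤ x) (hqx : (q : ℝ) * x < 1) (M : ℕ) :
    ∑ a ∈ range (M + 1), (w m q a : ℝ) * x ^ a ≤ 1 + m * x / (1 - q * x) := by
  rw [sum_range_succ']
  have h1 : ∀ a : ℕ, (w m q (a + 1) : ℝ) * x ^ (a + 1) = (m * x) * ((q : ℝ) * x) ^ a := by
    intro a
    rw [w, if_neg (Nat.succ_ne_zero a), Nat.add_sub_cancel]
    push_cast
    ring
  rw [sum_congr rfl fun a _ => h1 a, ← mul_sum]
  have h2 : (w m q 0 : ℝ) * x ^ 0 = 1 := by rw [w, if_pos rfl]; simp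
  rw [h2, add_comm, mul_div_assoc]
  have h3 := geom_le (mul_nonneg (Nat.cast_nonneg q) hx) hqx M
  have h4 : (m * x) * ∑ i ∈ range M, ((q : ℝ) * x) ^ i ≤ (m * x) * (1 / (1 - q * x)) :=
    mul_le_mul_of_nonneg_left h3 (mul_nonneg (Nat.cast_nonneg m) hx)
  have h5 : (m : ℝ) * x * (1 / (1 - q * x)) = m * (x / (1 - q * x)) := by ring
  linarith

/-- One more letter. -/
theorem K_succ_le {m q r : ℕ} (hq : 2 ≤ q) (hr : 1 ≤ r) {B : ℝ} (hB : 0 ≤ B)
    (h : ∀ N, (K (w m q) r N : ℝ) ≤ B * (q : ℝ) ^ N) (N : ℕ) :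
    (K (w m q) (r + 1) N : ℝ) ≤
      B * (1 + m * ((q : ℝ)⁻¹ ^ (r + 1)) / (1 - (q : ℝ)⁻¹ ^ r)) * (q : ℝ) ^ N := by
  have hq0 : (0 : ℝ) < q := by exact_mod_cast (by omega : 0 < q)
  have hq1 : (1 : ℝ) < q := by exact_mod_cast (by omega : 1 < q)
  obtain ⟨x, hx⟩ : ∃ x : ℝ, x = (q : ℝ)⁻¹ ^ (r + 1) := ⟨_, rfl⟩
  have hx0 : 0 ≤ x := by rw [hx]; positivity
  have hqx : (q : ℝ) * x = (q : ℝ)⁻¹ ^ r := by
    rw [hx, pow_succ]
    field_simp
  have hqx1 : (q : ℝ) * x < 1 := by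
    rw [hqx]
    exact pow_lt_one₀ (by positivity) (inv_lt_one_of_one_lt₀ hq1) (by omega)
  rw [K]
  push_cast
  have h1 : ∀ a ∈ range (N / (r + 1) + 1), (w m q a : ℝ) * (K (w m q) r (N - a * (r + 1)) : ℝ) ≤
      (B * (q : ℝ) ^ N) * ((w m q a : ℝ) * x ^ a) := by
    intro a ha
    have ha' : a * (r + 1) ≤ N := by
      have := Nat.lt_succ_iff.mp (mem_range.mp ha)
      exact (Nat.le_div_iff_mul_le (Nat.succ_pos r)).mp this
    have h2 : (q : ℝ) ^ (N - a * (r + 1)) = (q : ℝ) ^ N * x ^ a := by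
      rw [hx, ← pow_mul, inv_pow, mul_comm (r + 1) a, ← div_eq_mul_inv, eq_div_iff (by positivity),
        ← pow_add]
      congr 1
      omega
    calc (w m q a : ℝ) * (K (w m q) r (N - a * (r + 1)) : ℝ)
        ≤ (w m q a : ℝ) * (B * (q : ℝ) ^ (N - a * (r + 1))) :=
          mul_le_mul_of_nonneg_left (h _) (Nat.cast_nonneg _)
      _ = _ := by rw [h2]; ring
  refine (sum_le_sum h1).trans ?_
  rw [← mul_sum]
  have h3 := sum_w_le m q hx0 hqx1 (N / (r + 1))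
  have h4 : (B * (q : ℝ) ^ N) * ∑ a ∈ range (N / (r + 1) + 1), (w m q a : ℝ) * x ^ a ≤
      (B * (q : ℝ) ^ N) * (1 + m * x / (1 - q * x)) :=
    mul_le_mul_of_nonneg_left h3 (by positivity)
  refine h4.trans (le_of_eq ?_)
  rw [hqx, hx]
  ring

theorem K_one (v : ℕ → ℕ) (N : ℕ) : K v 1 N = v N := by
  rw [K, Nat.div_one, sum_eq_single N]
  · rw [K, zero_add, mul_one, Nat.sub_self, if_pos rfl, mul_one]
  · intro a ha hne
    have := Nat.lt_succ_iff.mp (mem_range.mp ha)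
    rw [K, if_neg (by omega), mul_zero]
  · intro h
    exact absurd (mem_range.mpr (Nat.lt_succ_self N)) h

theorem K_one_le (m q : ℕ) (hq : 1 ≤ q) (hm : q ≤ m) (N : ℕ) :
    (K (w m q) 1 N : ℝ) ≤ (m / q) * (q : ℝ) ^ N := by
  have hq0 : (0 : ℝ) < q := by exact_mod_cast (by omega : 0 < q)
  rw [K_one, w]
  split_ifs with h
  · subst h
    rw [pow_zero, mul_one, Nat.cast_one, le_div_iff₀ hq0, one_mul]
    exact_mod_cast hm
  · obtain ⟨N, rfl⟩ := Nat.exists_eq_succ_of_ne_zero h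
    rw [Nat.succ_eq_add_one, Nat.add_sub_cancel, pow_succ]
    push_cast
    apply le_of_eq
    field_simp

/-- The inductive inequality. -/
theorem step_ineq {q y : ℝ} (hq : 2 ≤ q) (hy1 : y < 1) :
    (1 - (q + 1) / (q - 1) * y) * (1 + (q + 1) * (y / q) / (1 - y)) ≤
      1 - (q + 1) / (q - 1) * (y / q) := by
  have h1 : 0 < q - 1 := by linarith
  have h2 : 0 < 1 - y := by linarith
  have h3 : (1 + (q + 1) * (y / q) / (1 - y)) = (1 + y / q) / (1 - y) := by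
    field_simp
    ring
  rw [h3, ← mul_div_assoc, div_le_iff₀ h2]
  have h4 : (1 - (q + 1) / (q - 1) * (y / q)) * (1 - y) - (1 - (q + 1) / (q - 1) * y) * (1 + y / q) =
      2 * ((q + 1) / (q - 1)) * y ^ 2 / q := by
    field_simp
    ring
  have h5 : 0 ≤ 2 * ((q + 1) / (q - 1)) * y ^ 2 / q := by positivity
  linarith

theorem K_le_of_base {q r₀ : ℕ} (hq : 2 ≤ q) (hr₀ : 1 ≤ r₀) {B : ℝ} (hB : 0 ≤ B)
    (hc : 0 ≤ 1 - ((q : ℝ) + 1) / (q - 1) * (q : ℝ)⁻¹ ^ r₀)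
    (h : ∀ N, (K (w (q + 1) q) r₀ N : ℝ) ≤
      B * (1 - ((q : ℝ) + 1) / (q - 1) * (q : ℝ)⁻¹ ^ r₀) * (q : ℝ) ^ N) (r : ℕ) (hr : r₀ ≤ r) (N : ℕ) :
    (K (w (q + 1) q) r N : ℝ) ≤
      B * (1 - ((q : ℝ) + 1) / (q - 1) * (q : ℝ)⁻¹ ^ r) * (q : ℝ) ^ N := by
  have hq0 : (0 : ℝ) < q := by exact_mod_cast (by omega : 0 < q)
  have hq1 : (1 : ℝ) < q := by exact_mod_cast (by omega : 1 < q)
  have hq2 : (2 : ℝ) ≤ q := by exact_mod_cast hq
  have hmono : ∀ r, r₀ ≤ r → 0 ≤ 1 - ((q : ℝ) + 1) / (q - 1) * (q : ℝ)⁻¹ ^ r := by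
    intro r hr
    have h1 : (q : ℝ)⁻¹ ^ r ≤ (q : ℝ)⁻¹ ^ r₀ :=
      pow_le_pow_of_le_one (by positivity) (inv_le_one_of_one_le₀ hq1.le) hr
    have h2 : 0 ≤ ((q : ℝ) + 1) / (q - 1) := div_nonneg (by linarith) (by linarith)
    have h3 := mul_le_mul_of_nonneg_left h1 h2
    linarith
  induction r, hr using Nat.le_induction generalizing N with
  | base => exact h N
  | succ r hr ih =>
    have h1 := K_succ_le (m := q + 1) hq (by omega : 1 ≤ r) (mul_nonneg hB (hmono r hr)) ih N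
    refine h1.trans ?_
    apply mul_le_mul_of_nonneg_right _ (by positivity)
    have h2 := step_ineq hq2 (y := (q : ℝ)⁻¹ ^ r)
      (pow_lt_one₀ (by positivity) (inv_lt_one_of_one_lt₀ hq1) (by omega))
    have h3 : (q : ℝ)⁻¹ ^ (r + 1) = (q : ℝ)⁻¹ ^ r / q := by
      rw [pow_succ, div_eq_mul_inv]
    rw [h3]
    push_cast
    rw [mul_assoc]
    exact mul_le_mul_of_nonneg_left h2 hB

/-- `K ≤ 4 q ^ N` for `q ≥ 3`. -/
theorem K_le_four {q : ℕ} (hq : 3 ≤ q) (r : ℕ) (hr : 1 ≤ r) (N : ℕ) :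
    (K (w (q + 1) q) r N : ℝ) ≤ 4 * (q : ℝ) ^ N := by
  have hq0 : (0 : ℝ) < q := by exact_mod_cast (by omega : 0 < q)
  have hq3 : (3 : ℝ) ≤ q := by exact_mod_cast hq
  have hD : 0 < (q : ℝ) ^ 2 - 2 * q - 1 := by nlinarith
  have hB : ((q : ℝ) ^ 2 - 1) / (q ^ 2 - 2 * q - 1) ≤ 4 := by
    rw [div_le_iff₀ hD]
    nlinarith
  have hB0 : 0 ≤ ((q : ℝ) ^ 2 - 1) / (q ^ 2 - 2 * q - 1) := div_nonneg (by nlinarith) hD.le
  have hc : 1 - ((q : ℝ) + 1) / (q - 1) * (q : ℝ)⁻¹ ^ 1 = (q ^ 2 - 2 * q - 1) / (q * (q - 1)) := by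
    have : (q : ℝ) - 1 ≠ 0 := by linarith
    field_simp
    ring
  have hc0 : 0 ≤ (q ^ 2 - 2 * q - 1) / (q * ((q : ℝ) - 1)) := by
    apply div_nonneg hD.le
    apply mul_nonneg hq0.le
    linarith
  have h := K_le_of_base (q := q) (r₀ := 1) (by omega) le_rfl hB0 (by rw [hc]; exact hc0) (by
    intro N
    have h1 := K_one_le (q + 1) q (by omega) (by omega) N
    refine h1.trans (le_of_eq ?_)
    rw [hc]
    push_cast
    have : (q : ℝ) - 1 ≠ 0 := by linarith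
    have hD' := hD.ne'
    congr 1
    generalize (q : ℝ) ^ 2 - 2 * q - 1 = D at hD'
    field_simp
    ring) r hr N
  refine h.trans ?_
  apply mul_le_mul_of_nonneg_right _ (by positivity)
  have h2 : 0 ≤ ((q : ℝ) + 1) / (q - 1) * (q : ℝ)⁻¹ ^ r := by
    apply mul_nonneg (div_nonneg (by linarith) (by linarith)) (by positivity)
  have h3 : ((q : ℝ) ^ 2 - 1) / (q ^ 2 - 2 * q - 1) * (1 - ((q : ℝ) + 1) / (q - 1) * (q : ℝ)⁻¹ ^ r) ≤
      ((q : ℝ) ^ 2 - 1) / (q ^ 2 - 2 * q - 1) * 1 := mul_le_mul_of_nonneg_left (by linarith) hB0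
  linarith

/-- One step for `q = 2`, with rational bounds. -/
theorem K_two_step {r : ℕ} (hr : 1 ≤ r) {B B' : ℝ} (hB : 0 ≤ B)
    (h : ∀ N, (K (w 3 2) r N : ℝ) ≤ B * (2 : ℝ) ^ N)
    (hB' : B * (1 + 3 * ((2 : ℝ)⁻¹ ^ (r + 1)) / (1 - (2 : ℝ)⁻¹ ^ r)) ≤ B') (N : ℕ) :
    (K (w 3 2) (r + 1) N : ℝ) ≤ B' * (2 : ℝ) ^ N := by
  have h1 := K_succ_le (m := 3) (q := 2) le_rfl hr hB (by exact_mod_cast h) N
  push_cast at h1
  exact h1.trans (mul_le_mul_of_nonneg_right hB' (by positivity))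

/-- `K ≤ 8.26 * 2 ^ N` for `q = 2`. -/
theorem K_le_two (r : ℕ) (hr : 1 ≤ r) (N : ℕ) :
    (K (w 3 2) r N : ℝ) ≤ 8.26 * (2 : ℝ) ^ N := by
  have k1 : ∀ N, (K (w 3 2) 1 N : ℝ) ≤ 1.5 * (2 : ℝ) ^ N := by
    intro N
    have := K_one_le 3 2 (by norm_num) (by norm_num) N
    push_cast at this
    linarith
  have k2 := K_two_step le_rfl (B' := 3.75) (by norm_num) k1 (by norm_num)
  have k3 := K_two_step (by norm_num) (B' := 5.625) (by norm_num) k2 (by norm_num)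
  have k4 := K_two_step (by norm_num) (B' := 6.8304) (by norm_num) k3 (by norm_num)
  have k5 := K_two_step (by norm_num) (B' := 7.51345) (by norm_num) k4 (by norm_num)
  have k6 := K_two_step (by norm_num) (B' := 7.8771) (by norm_num) k5 (by norm_num)
  have k7 := K_two_step (by norm_num) (B' := 8.06466) (by norm_num) k6 (by norm_num)
  have k8 := K_two_step (by norm_num) (B' := 8.15992) (by norm_num) k7 (by norm_num)
  rcases lt_or_ge r 8 with hr8 | hr8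
  · have h2 : (0 : ℝ) < (2 : ℝ) ^ N := by positivity
    interval_cases r
    · have := k1 N; linarith
    · have := k2 N; linarith
    · have := k3 N; linarith
    · have := k4 N; linarith
    · have := k5 N; linarith
    · have := k6 N; linarith
    · have := k7 N; linarith
  · have h := K_le_of_base (q := 2) (r₀ := 8) le_rfl (by norm_num) (B := 8.26) (by norm_num)
      (by norm_num) (by
        intro N
        refine (k8 N).trans ?_
        push_cast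
        apply mul_le_mul_of_nonneg_right _ (by positivity)
        norm_num) r hr8 N
    push_cast at h
    refine h.trans ?_
    apply mul_le_mul_of_nonneg_right _ (by positivity)
    have : (0 : ℝ) ≤ (2 : ℝ)⁻¹ ^ r := by positivity
    norm_num

end Cfsg.Agent.H152.Model
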