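import Cfsg.Agent.H152.AbDesc

/-!
# Unipotent abelian groups of isometries (helper152, for S2501)

`F` a finite field of characteristic `p` with `q` elements, `A` a finite commutative `p`-group.

* `symp` : symplectic spaces of dimension `2 m`: `|A| ≤ q ^ (m (m + 1) / 2)`;
* `orthOdd` : orthogonal spaces, `q` odd, `orthEven` : orthogonal spaces, `q` even.
-/

set_option autoImplicit false

namespace Cfsg.Agent.H152.AbUni

open Module Cfsg.Agent.H152.AbDesc

universe u w

section lemmas

variable {F : Type*} [Field F] {V : Type*} [AddCommGroup V] [Module F V]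

/-- A subspace of more than half the dimension is not totally isotropic. -/
theorem exists_ne_zero_of_lt [FiniteDimensional F V] {B : LinearMap.BilinForm F V}
    (hB : ∀ x, (∀ y, B x y = 0) → x = 0) {W : Submodule F V} (hW : finrank F V < 2 * finrank F W) :
    ∃ x ∈ W, ∃ y ∈ W, B x y ≠ 0 := by
  by_contra hc
  push Not at hc
  have h1 : W ≤ B.orthogonal W := fun y hy => by
    rw [LinearMap.BilinForm.mem_orthogonal_iff]
    exact fun x hx => hc x hx y hy
  have h2 := LinearMap.BilinForm.finrank_add_finrank_orthogonal' (B := B) W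
  have h3 : LinearMap.ker B = ⊥ := by
    rw [LinearMap.ker_eq_bot']
    exact fun x hx => hB x fun y => by rw [hx]; rfl
  rw [h3, inf_bot_eq, finrank_bot, add_zero] at h2
  have h4 := Submodule.finrank_mono h1
  omega

theorem card_eq_pow [Finite F] [Finite V] (W : Submodule F V) : Nat.card W = Nat.card F ^ finrank F W :=
  Module.natCard_eq_pow_finrank

theorem one_lt_card [Finite F] : 1 < Nat.card F := Finite.one_lt_card

theorem card_le_one_of_subsingleton {A : Type*} [Group A] [Subsingleton V] {ρ : A →* Module.End F V}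
    (hρ : Function.Injective ρ) : Nat.card A = 1 := by
  have : Subsingleton A := ⟨fun a b => hρ (by ext x; exact Subsingleton.elim _ _)⟩
  exact Nat.card_unique

end lemmas

section symplectic

variable {F : Type*} [Field F] [Finite F] {p : ℕ} [Fact p.Prime] [CharP F p]

theorem exp_one (m : ℕ) : 1 + m * (m + 3) / 2 = (m + 1) * (m + 2) / 2 := by
  have h : (m + 1) * (m + 2) = m * (m + 3) + 2 * 1 := by ring
  rw [h, Nat.add_mul_div_left _ _ (by norm_num)]
  omega

theorem exp_two (m : ℕ) : (m + 1) * (m + 2) / 2 + (m + 1) = (m + 1) * (m + 1 + 3) / 2 := by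
  have h : (m + 1) * (m + 1 + 3) = (m + 1) * (m + 2) + 2 * (m + 1) := by ring
  rw [h, Nat.add_mul_div_left _ _ (by norm_num)]

theorem exp_three (m : ℕ) : 2 + m * (m + 3) / 2 ≤ (m + 1) * (m + 1 + 3) / 2 := by
  rw [← exp_two, ← exp_one]
  omega

/-- **Symplectic case.** -/
theorem symp_aux (m : ℕ) : ∀ (V : Type u) [AddCommGroup V] [Module F V] [Finite V], finrank F V = 2 * m →
    ∀ B : LinearMap.BilinForm F V, (∀ x, B x x = 0) → (∀ x, (∀ y, B x y = 0) → x = 0) →
    ∀ (A : Type w) [CommGroup A] [Finite A], IsPGroup p A → ∀ ρ : A →* Module.End F V, Function.Injective ρ →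
      (∀ g x y, B (ρ g x) (ρ g y) = B x y) →
      Nat.card A ≤ Nat.card F ^ (m * (m + 1) / 2) ∧
        Nat.card A * Nat.card (fix ρ) ≤ Nat.card F ^ (m * (m + 3) / 2) := by
  induction m with
  | zero =>
    intro V _ _ _ hV B _ _ A _ _ _ ρ hρ _
    have : Subsingleton V := by
      rw [mul_zero] at hV
      exact finrank_zero_iff.1 hV
    have h1 := card_le_one_of_subsingleton hρ
    have h2 : Nat.card (fix ρ) = 1 := Nat.card_unique
    rw [h1, h2]
    simp
  | succ m ih =>
    intro V _ _ _ hV B halt hB A _ _ hA ρ hρ hpres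
    have hq : 1 ≤ Nat.card F := one_lt_card.le
    have hrefl : ∀ x y, B x y = 0 → B y x = 0 := fun x y h => by
      have := LinearMap.BilinForm.IsAlt.neg_eq (B₁ := B) halt x y
      rw [← this, h, neg_zero]
    have hnt : Nontrivial V := by
      apply nontrivial_of_finrank_pos (R := F)
      omega
    -- hyperbolic pairs
    have hpair : ∀ x y, B x y ≠ 0 → HP B x ((B x y)⁻¹ • y) := fun x y h =>
      ⟨hrefl, halt x, by simp [halt y], by simp [h]⟩
    have hdim : ∀ x y, HP B x y → finrank F (perp B x y) = 2 * m := fun x y h => by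
      have := finrank_eq h
      omega
    have hres : ∀ x y (h : HP B x y), (∀ z : perp B x y, (B.restrict (perp B x y)) z z = 0) ∧
        ∀ z : perp B x y, (∀ z', (B.restrict (perp B x y)) z z' = 0) → z = 0 := fun x y h =>
      ⟨fun z => halt z, fun z hz => nondeg h hB z hz⟩
    have key : Nat.card A ≤ Nat.card F ^ ((m + 1) * (m + 2) / 2) := by
      obtain ⟨v, hv, hv0⟩ := exists_fix (p := p) hA ρ
      obtain ⟨y, hy⟩ : ∃ y, B v y ≠ 0 := by
        by_contra hc
        push Not at hc
        exact hv0 (hB v hc)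
      have h := hpair v y hy
      have a : Act B v ρ := ⟨hv, hpres⟩
      obtain ⟨r1, r2⟩ := hres _ _ h
      obtain ⟨-, h2⟩ := ih (perp B v ((B v y)⁻¹ • y)) (hdim _ _ h) _ r1 r2 (A ⧸ (desc h a).ker)
        (hA.to_quotient _) (red (desc h a)) (red_injective _)
        (fun g => red_ind (desc h a) (P := fun f => ∀ x y, B.restrict _ (f x) (f y) = B.restrict _ x y)
          (fun g => desc_pres h a g) g)
      rw [fix_red] at h2
      rw [card_eq (desc h a), ← exp_one, pow_add, pow_one]
      calc Nat.card (A ⧸ (desc h a).ker) * Nat.card (desc h a).ker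
          ≤ Nat.card (A ⧸ (desc h a).ker) * (Nat.card F * Nat.card (fix (desc h a))) :=
            Nat.mul_le_mul_left _ (card_ker_le h a hρ)
        _ = Nat.card F * (Nat.card (A ⧸ (desc h a).ker) * Nat.card (fix (desc h a))) := by ring
        _ ≤ _ := Nat.mul_le_mul_left _ h2
    refine ⟨key, ?_⟩
    by_cases hlt : finrank F (fix ρ) ≤ m + 1
    · rw [card_eq_pow (fix ρ), ← exp_two, pow_add]
      exact Nat.mul_le_mul key (Nat.pow_le_pow_right hq hlt)
    · obtain ⟨x, hx, y, hy, hxy⟩ := exists_ne_zero_of_lt hB (W := fix ρ) (by omega)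
      have h := hpair x y hxy
      have a : Act B x ρ := ⟨hx, hpres⟩
      have hw : ∀ g, ρ g ((B x y)⁻¹ • y) = (B x y)⁻¹ • y := (fix ρ).smul_mem _ hy
      obtain ⟨r1, r2⟩ := hres _ _ h
      obtain ⟨-, h2⟩ := ih (perp B x ((B x y)⁻¹ • y)) (hdim _ _ h) _ r1 r2 A hA (desc h a) (ker_eq_bot h a hρ hw)
        (fun g => desc_pres h a g)
      rw [card_fix h a hw]
      calc Nat.card A * (Nat.card F ^ 2 * Nat.card (fix (desc h a)))
          = Nat.card F ^ 2 * (Nat.card A * Nat.card (fix (desc h a))) := by ring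
        _ ≤ Nat.card F ^ 2 * Nat.card F ^ (m * (m + 3) / 2) := Nat.mul_le_mul_left _ h2
        _ = Nat.card F ^ (2 + m * (m + 3) / 2) := (pow_add _ _ _).symm
        _ ≤ _ := Nat.pow_le_pow_right hq (exp_three m)

end symplectic

section quad

variable {F : Type*} [Field F] {V : Type*} [AddCommGroup V] [Module F V] {Q : QuadraticForm F V} {v w : V}
  {A : Type*} [CommGroup A] {ρ : A →* Module.End F V}

theorem quad_refl (x y : V) (h : QuadraticMap.polarBilin Q x y = 0) : QuadraticMap.polarBilin Q y x = 0 := by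
  rw [QuadraticMap.polarBilin_apply_apply, QuadraticMap.polar_comm]
  exact h

theorem quad_pres (hQ : ∀ g x, Q (ρ g x) = Q x) (g : A) (x y : V) :
    QuadraticMap.polarBilin Q (ρ g x) (ρ g y) = QuadraticMap.polarBilin Q x y := by
  simp only [QuadraticMap.polarBilin_apply_apply, QuadraticMap.polar, ← map_add, hQ]

theorem quad_sub_smul (x : V) (c : F) : Q (x - c • v) = Q x + c * c * Q v - c * QuadraticMap.polar Q x v := by
  have h1 : x - c • v = x + (-c) • v := by rw [neg_smul, sub_eq_add_neg]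
  rw [h1, QuadraticMap.map_add (⇑Q), QuadraticMap.map_smul, QuadraticMap.polar_smul_right, smul_eq_mul, smul_eq_mul]
  ring

/-- The descended action preserves the quadratic form. -/
theorem desc_quad (h : HP (QuadraticMap.polarBilin Q) v w) (a : Act (QuadraticMap.polarBilin Q) v ρ) (hv : Q v = 0)
    (hQ : ∀ g x, Q (ρ g x) = Q x) (g : A) (x : perp (QuadraticMap.polarBilin Q) v w) :
    Q (desc h a g x) = Q x := by
  have h1 : QuadraticMap.polar Q (ρ g x) v = 0 := by
    have h2 := a.left g (x : V)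
    rw [QuadraticMap.polarBilin_apply_apply] at h2
    rw [h2]
    exact h.refl _ _ (mem_perp.1 x.2).1
  rw [coe_desc, quad_sub_smul, h1, hv, hQ]
  ring

theorem quad_add (h : HP (QuadraticMap.polarBilin Q) v w) (b : F) (u : perp (QuadraticMap.polarBilin Q) v w) :
    Q (b • v + (1 : F) • w + u) = b * b * Q v + b + Q w + Q u := by
  obtain ⟨h1, h2⟩ := mem_perp.1 u.2
  have h3 := h.refl _ _ h2
  have h4 := h.vw
  rw [QuadraticMap.polarBilin_apply_apply] at h1 h3 h4
  rw [one_smul, QuadraticMap.map_add (⇑Q), QuadraticMap.map_add (⇑Q), QuadraticMap.map_smul, QuadraticMap.polar_add_left,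
    QuadraticMap.polar_smul_left,
    QuadraticMap.polar_smul_left, h1, h3, h4, smul_eq_mul, smul_eq_mul, smul_eq_mul]
  ring

/-- Orthogonal case: `|ker desc| ≤ |fix desc|`. -/
theorem card_ker_le_quad [Finite V] (h : HP (QuadraticMap.polarBilin Q) v w)
    (a : Act (QuadraticMap.polarBilin Q) v ρ) (hv : Q v = 0) (hw : Q w = 0) (hQ : ∀ g x, Q (ρ g x) = Q x)
    (hρ : Function.Injective ρ) : Nat.card (desc h a).ker ≤ Nat.card (fix (desc h a)) := by
  let f : (desc h a).ker → fix (desc h a) := fun k => ⟨proj h (ρ k w), fix_proj h a k.2⟩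
  have hf : ∀ g : A, QuadraticMap.polarBilin Q (ρ g w) w = - Q (proj h (ρ g w)) := by
    intro g
    have h1 := hQ g w
    rw [eq_add h (ρ g w), a.right, h.vw, quad_add h, hv, hw] at h1
    linear_combination h1
  apply Nat.card_le_card_of_injective f
  rintro ⟨g, hg⟩ ⟨k, hk⟩ hgk
  apply Subtype.ext
  apply ker_ext h a hρ hg hk
  have h2 : proj h (ρ g w) = proj h (ρ k w) := congrArg Subtype.val hgk
  rw [eq_add h (ρ g w), eq_add h (ρ k w), hf, hf, h2, a.right, a.right]

/-- Characteristic two, `Q v ≠ 0`: the kernel has order at most two. -/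
theorem card_ker_le_two (h : HP (QuadraticMap.polarBilin Q) v w) (hB : ∀ x, (∀ y, QuadraticMap.polar Q x y = 0) → x = 0)
    (a : Act (QuadraticMap.polarBilin Q) v ρ) (hv : Q v ≠ 0) (hQ : ∀ g x, Q (ρ g x) = Q x)
    (hρ : Function.Injective ρ) : Nat.card (desc h a).ker ≤ 2 := by
  classical
  have h0 : ∀ g ∈ (desc h a).ker, proj h (ρ g w) = 0 := by
    intro g hg
    apply nondeg h (B := QuadraticMap.polarBilin Q) (fun x hx => hB x hx)
    intro x
    have h1 := hQ g x
    have h2 : QuadraticMap.polar Q (x : V) v = 0 := h.refl _ _ (mem_perp.1 x.2).1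
    rw [apply_of_ker h a hg, quad_sub_smul, h2] at h1
    have h3 : QuadraticMap.polarBilin Q x (ρ g w) = 0 := by
      have h4 : QuadraticMap.polarBilin Q x (ρ g w) * QuadraticMap.polarBilin Q x (ρ g w) * Q v = 0 := by
        linear_combination h1
      rcases mul_eq_zero.1 h4 with h5 | h5
      · exact mul_self_eq_zero.1 h5
      · exact absurd h5 hv
    rw [eq_add h (ρ g w), map_add, map_add, map_smul, map_smul, (mem_perp.1 x.2).2,
      h.refl _ _ (mem_perp.1 x.2).1, smul_zero, smul_zero, zero_add, zero_add] at h3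
    exact quad_refl _ _ h3
  have hf : ∀ g ∈ (desc h a).ker, QuadraticMap.polarBilin Q (ρ g w) w ∈ ({0, -(Q v)⁻¹} : Finset F) := by
    intro g hg
    have h1 := hQ g w
    rw [eq_add h (ρ g w), a.right, h.vw, quad_add h, h0 g hg] at h1
    set b := QuadraticMap.polarBilin Q (ρ g w) w
    have h2 : b * (b * Q v + 1) = 0 := by
      have h3 : Q ((0 : perp (QuadraticMap.polarBilin Q) v w) : V) = 0 := by simp
      rw [h3] at h1
      linear_combination h1
    rw [Finset.mem_insert, Finset.mem_singleton]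
    rcases mul_eq_zero.1 h2 with h3 | h3
    · exact Or.inl h3
    · right
      field_simp
      linear_combination h3
  let f : (desc h a).ker → ({0, -(Q v)⁻¹} : Finset F) := fun k => ⟨_, hf k k.2⟩
  have hinj : Function.Injective f := by
    rintro ⟨g, hg⟩ ⟨k, hk⟩ hgk
    apply Subtype.ext
    apply ker_ext h a hρ hg hk
    have h2 : QuadraticMap.polarBilin Q (ρ g w) w = QuadraticMap.polarBilin Q (ρ k w) w := congrArg Subtype.val hgk
    rw [eq_add h (ρ g w), eq_add h (ρ k w), h2, h0 g hg, h0 k hk, a.right, a.right]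
  have h1 := Nat.card_le_card_of_injective f hinj
  have h2 : Nat.card ({0, -(Q v)⁻¹} : Finset F) ≤ 2 := by
    rw [Nat.card_eq_fintype_card, Fintype.card_coe]
    exact Finset.card_le_two
  exact h1.trans h2

/-- A singular vector completes to a hyperbolic pair. -/
theorem exists_pair (hB : ∀ x, (∀ y, QuadraticMap.polar Q x y = 0) → x = 0) (hv : Q v = 0) (hv0 : v ≠ 0) :
    ∃ w, HP (QuadraticMap.polarBilin Q) v w ∧ Q w = 0 := by
  obtain ⟨y, hy⟩ : ∃ y, QuadraticMap.polar Q v y ≠ 0 := by
    by_contra hc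
    push Not at hc
    exact hv0 (hB v hc)
  obtain ⟨z, h1⟩ : ∃ z, QuadraticMap.polar Q v z = 1 :=
    ⟨(QuadraticMap.polar Q v y)⁻¹ • y, by rw [QuadraticMap.polar_smul_right, smul_eq_mul, inv_mul_cancel₀ hy]⟩
  have h3 : Q (z - Q z • v) = 0 := by
    rw [quad_sub_smul, hv, QuadraticMap.polar_comm, h1]
    ring
  have hvv : QuadraticMap.polar Q v v = 0 := by rw [QuadraticMap.polar_self, hv, smul_zero]
  refine ⟨z - Q z • v, ⟨fun x y => quad_refl x y, hvv, ?_, ?_⟩, h3⟩
  · rw [QuadraticMap.polarBilin_apply_apply, QuadraticMap.polar_self, h3, smul_zero]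
  · rw [QuadraticMap.polarBilin_apply_apply, QuadraticMap.polar_sub_right, QuadraticMap.polar_smul_right, hvv, h1,
      smul_zero, sub_zero]

/-- The form on the complement. -/
theorem quad_nondeg (h : HP (QuadraticMap.polarBilin Q) v w) (hB : ∀ x, (∀ y, QuadraticMap.polar Q x y = 0) → x = 0)
    (x : perp (QuadraticMap.polarBilin Q) v w)
    (hx : ∀ y, QuadraticMap.polar (Q.comp (perp (QuadraticMap.polarBilin Q) v w).subtype) x y = 0) : x = 0 :=
  nondeg h (B := QuadraticMap.polarBilin Q) (fun x hx => hB x hx) x fun y => hx y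

end quad

section even

variable {F : Type*} [Field F] [Finite F] [CharP F 2]

/-- The exponent for `|A| |C_V(A)|`, `q` even. -/
def eE (m : ℕ) : ℕ := if m = 0 then 0 else m * (m + 1) / 2 + 1

theorem eE_le (m : ℕ) : eE m ≤ m * (m + 1) / 2 + 1 := by
  unfold eE; split_ifs <;> omega

theorem half (m : ℕ) : (m + 1) * (m + 2) / 2 = m * (m + 1) / 2 + (m + 1) := by
  have h : (m + 1) * (m + 2) = m * (m + 1) + 2 * (m + 1) := by ring
  rw [h, Nat.add_mul_div_left _ _ (by norm_num)]

theorem eE_succ (m : ℕ) : eE (m + 1) = m * (m + 1) / 2 + 1 + (m + 1) := by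
  unfold eE
  rw [if_neg (by omega), half]
  omega

theorem two_add_eE (m : ℕ) : 2 + eE m ≤ eE (m + 1) := by
  rw [eE_succ]
  unfold eE
  split_ifs with h
  · subst h; norm_num
  · omega

/-- **Orthogonal case, `q` even.** -/
theorem orthEven_aux (m : ℕ) : ∀ (V : Type u) [AddCommGroup V] [Module F V] [Finite V], finrank F V = 2 * m →
    ∀ Q : QuadraticForm F V, (∀ x, (∀ y, QuadraticMap.polar Q x y = 0) → x = 0) →
    ∀ (A : Type w) [CommGroup A] [Finite A], IsPGroup 2 A → ∀ ρ : A →* Module.End F V, Function.Injective ρ →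
      (∀ g x, Q (ρ g x) = Q x) →
      Nat.card A ≤ Nat.card F ^ (m * (m - 1) / 2 + 1) ∧
        Nat.card A * Nat.card (fix ρ) ≤ Nat.card F ^ (eE m) := by
  induction m with
  | zero =>
    intro V _ _ _ hV Q _ A _ _ _ ρ hρ _
    have hq : 1 ≤ Nat.card F := one_lt_card.le
    have : Subsingleton V := by
      rw [mul_zero] at hV
      exact finrank_zero_iff.1 hV
    have h1 := card_le_one_of_subsingleton hρ
    have h2 : Nat.card (fix ρ) = 1 := Nat.card_unique
    rw [h1, h2]
    refine ⟨Nat.one_le_pow _ _ hq, ?_⟩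
    simp [eE]
  | succ m ih =>
    intro V _ _ _ hV Q hB A _ _ hA ρ hρ hQ
    have hF2 : 2 ≤ Nat.card F := one_lt_card
    have hq : 1 ≤ Nat.card F := one_lt_card.le
    have hpres := quad_pres (Q := Q) (ρ := ρ) hQ
    have hself : ∀ x, QuadraticMap.polarBilin Q x x = 0 := fun x => by
      rw [QuadraticMap.polarBilin_apply_apply, QuadraticMap.polar_self, CharTwo.two_nsmul]
    have hnt : Nontrivial V := by
      apply nontrivial_of_finrank_pos (R := F)
      omega
    have hpair : ∀ x y, QuadraticMap.polarBilin Q x y ≠ 0 →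
        HP (QuadraticMap.polarBilin Q) x ((QuadraticMap.polarBilin Q x y)⁻¹ • y) := fun x y h =>
      ⟨fun x y => quad_refl x y, hself x, hself _,
        by rw [map_smul, smul_eq_mul, inv_mul_cancel₀ h]⟩
    have hdim : ∀ x y, HP (QuadraticMap.polarBilin Q) x y → finrank F (perp (QuadraticMap.polarBilin Q) x y) = 2 * m :=
      fun x y h => by
        have := finrank_eq h
        omega
    have key : Nat.card A ≤ Nat.card F ^ (m * (m + 1) / 2 + 1) := by
      by_cases hs : ∃ v ∈ fix ρ, v ≠ 0 ∧ Q v = 0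
      · obtain ⟨v, hv, hv0, hQv⟩ := hs
        obtain ⟨y, h, hQy⟩ := exists_pair hB hQv hv0
        have a : Act (QuadraticMap.polarBilin Q) v ρ := ⟨hv, hpres⟩
        obtain ⟨-, h2⟩ := ih (perp (QuadraticMap.polarBilin Q) v y) (hdim _ _ h)
          (Q.comp (perp (QuadraticMap.polarBilin Q) v y).subtype) (fun x hx => quad_nondeg h hB x hx)
          (A ⧸ (desc h a).ker) (hA.to_quotient _) (red (desc h a)) (red_injective _)
          (fun g => red_ind (desc h a)
            (P := fun f => ∀ x : perp (QuadraticMap.polarBilin Q) v y, Q (f x) = Q x)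
            (fun g => desc_quad h a hQv hQ g) g)
        rw [fix_red] at h2
        rw [card_eq (desc h a)]
        calc Nat.card (A ⧸ (desc h a).ker) * Nat.card (desc h a).ker
            ≤ Nat.card (A ⧸ (desc h a).ker) * Nat.card (fix (desc h a)) :=
              Nat.mul_le_mul_left _ (card_ker_le_quad h a hQv hQy hQ hρ)
          _ ≤ Nat.card F ^ (eE m) := h2
          _ ≤ _ := Nat.pow_le_pow_right hq (eE_le m)
      · push Not at hs
        obtain ⟨v, hv, hv0⟩ := exists_fix (p := 2) hA ρ
        have hQv := hs v hv hv0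
        obtain ⟨y, hy⟩ : ∃ y, QuadraticMap.polarBilin Q v y ≠ 0 := by
          by_contra hc
          push Not at hc
          exact hv0 (hB v hc)
        have h := hpair v y hy
        have a : Act (QuadraticMap.polarBilin Q) v ρ := ⟨hv, hpres⟩
        obtain ⟨h2, -⟩ := symp_aux (p := 2) (F := F) m (perp (QuadraticMap.polarBilin Q) v _) (hdim _ _ h)
          (LinearMap.BilinForm.restrict (QuadraticMap.polarBilin Q) _) (fun z => hself z)
          (fun z hz => nondeg h (fun x hx => hB x hx) z hz) (A ⧸ (desc h a).ker)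
          (hA.to_quotient _) (red (desc h a)) (red_injective _)
          (fun g => red_ind (desc h a) (P := fun f => ∀ x y : perp (QuadraticMap.polarBilin Q) v _,
            QuadraticMap.polarBilin Q (f x) (f y) = QuadraticMap.polarBilin Q x y) (fun g => desc_pres h a g) g)
        rw [card_eq (desc h a), pow_succ]
        exact Nat.mul_le_mul h2 ((card_ker_le_two h hB a hQv hQ hρ).trans hF2)
    refine ⟨?_, ?_⟩
    · have h1 : (m + 1) * (m + 1 - 1) = m * (m + 1) := by rw [Nat.add_sub_cancel, mul_comm]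
      rw [h1]
      exact key
    by_cases hlt : finrank F (fix ρ) ≤ m + 1
    · rw [card_eq_pow (fix ρ), eE_succ, pow_add]
      exact Nat.mul_le_mul key (Nat.pow_le_pow_right hq hlt)
    · obtain ⟨x, hx, y, hy, hxy⟩ := exists_ne_zero_of_lt (B := QuadraticMap.polarBilin Q) (fun x hx => hB x hx)
        (W := fix ρ) (by omega)
      have h := hpair x y hxy
      have a : Act (QuadraticMap.polarBilin Q) x ρ := ⟨hx, hpres⟩
      have hw : ∀ g, ρ g ((QuadraticMap.polarBilin Q x y)⁻¹ • y) = (QuadraticMap.polarBilin Q x y)⁻¹ • y :=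
        (fix ρ).smul_mem _ hy
      obtain ⟨-, h2⟩ := ih (perp (QuadraticMap.polarBilin Q) x ((QuadraticMap.polarBilin Q x y)⁻¹ • y)) (hdim _ _ h)
        (Q.comp (perp (QuadraticMap.polarBilin Q) x ((QuadraticMap.polarBilin Q x y)⁻¹ • y)).subtype)
        (fun x hx => quad_nondeg h hB x hx) A hA (desc h a) (ker_eq_bot h a hρ hw)
        (fun g z => by
          change Q (desc h a g z) = Q z
          rw [desc_of_fix h a hw, hQ])
      rw [card_fix h a hw]
      calc Nat.card A * (Nat.card F ^ 2 * Nat.card (fix (desc h a)))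
          = Nat.card F ^ 2 * (Nat.card A * Nat.card (fix (desc h a))) := by ring
        _ ≤ Nat.card F ^ 2 * Nat.card F ^ (eE m) := Nat.mul_le_mul_left _ h2
        _ = Nat.card F ^ (2 + eE m) := (pow_add _ _ _).symm
        _ ≤ _ := Nat.pow_le_pow_right hq (two_add_eE m)

end even

section res

variable {F : Type*} [Field F] {V : Type*} [AddCommGroup V] [Module F V] {Q : QuadraticForm F V} {u : V}
  {A : Type*} [CommGroup A] {ρ : A →* Module.End F V}

/-- The orthogonal complement of `u`. -/
def uperp (Q : QuadraticForm F V) (u : V) : Submodule F V := LinearMap.ker (QuadraticMap.polarBilin Q u)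

theorem mem_uperp {x : V} : x ∈ uperp Q u ↔ QuadraticMap.polar Q u x = 0 := by
  rw [uperp, LinearMap.mem_ker]; rfl

theorem res_mem (hu : ∀ g, ρ g u = u) (hQ : ∀ g x, Q (ρ g x) = Q x) (g : A) :
    ∀ x ∈ uperp Q u, ρ g x ∈ uperp Q u := by
  intro x hx
  rw [mem_uperp] at hx ⊢
  have h1 := quad_pres hQ g u x
  rw [hu] at h1
  exact h1.trans hx

/-- The action on the orthogonal complement of a fixed vector. -/
def res (hu : ∀ g, ρ g u = u) (hQ : ∀ g x, Q (ρ g x) = Q x) : A →* Module.End F (uperp Q u) where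
  toFun g := (ρ g).restrict (res_mem hu hQ g)
  map_one' := by
    ext x : 2
    change ρ 1 (x : V) = x
    rw [map_one]; rfl
  map_mul' g k := by
    ext x : 2
    change ρ (g * k) (x : V) = ρ g (ρ k x)
    rw [map_mul]; rfl

theorem coe_res (hu : ∀ g, ρ g u = u) (hQ : ∀ g x, Q (ρ g x) = Q x) (g : A) (x : uperp Q u) :
    (res hu hQ g x : V) = ρ g x := rfl

theorem polar_self_ne (h2 : (2 : F) ≠ 0) (hu : Q u ≠ 0) : QuadraticMap.polar Q u u ≠ 0 := by
  rw [QuadraticMap.polar_self, nsmul_eq_mul]
  exact mul_ne_zero (by exact_mod_cast h2) hu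

/-- Coordinates. -/
def coordU (h : QuadraticMap.polar Q u u ≠ 0) : V ≃ₗ[F] F × uperp Q u where
  toFun x := ((QuadraticMap.polar Q u u)⁻¹ * QuadraticMap.polarBilin Q u x,
    ⟨x - ((QuadraticMap.polar Q u u)⁻¹ * QuadraticMap.polarBilin Q u x) • u, by
      rw [mem_uperp, QuadraticMap.polar_sub_right, QuadraticMap.polar_smul_right, smul_eq_mul,
        QuadraticMap.polarBilin_apply_apply]
      field_simp
      ring⟩)
  invFun y := y.1 • u + y.2
  map_add' x y := by
    ext
    · simp only [map_add, mul_add, Prod.mk_add_mk]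
    · simp only [map_add, mul_add, add_smul, Prod.mk_add_mk, Submodule.coe_add]
      abel
  map_smul' a x := by
    ext
    · simp only [map_smul, smul_eq_mul, Prod.smul_mk, RingHom.id_apply]
      ring
    · simp only [map_smul, smul_eq_mul, Prod.smul_mk, RingHom.id_apply, Submodule.coe_smul, smul_sub, smul_smul]
      congr 2
      ring
  left_inv x := by
    simp
  right_inv := by
    rintro ⟨b, x, hx⟩
    have hx' := mem_uperp.1 hx
    have h1 : QuadraticMap.polarBilin Q u (b • u + x) = b * QuadraticMap.polar Q u u := by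
      rw [map_add, map_smul, QuadraticMap.polarBilin_apply_apply, QuadraticMap.polarBilin_apply_apply, hx', add_zero,
        smul_eq_mul]
    have h2 : (QuadraticMap.polar Q u u)⁻¹ * (b * QuadraticMap.polar Q u u) = b := by
      field_simp
    simp only [h1, h2]
    ext
    · rfl
    · change b • u + x - b • u = x
      abel

theorem res_injective (h : QuadraticMap.polar Q u u ≠ 0) (hu : ∀ g, ρ g u = u) (hQ : ∀ g x, Q (ρ g x) = Q x)
    (hρ : Function.Injective ρ) : Function.Injective (res hu hQ) := by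
  rw [injective_iff_map_eq_one]
  intro g hg
  apply hρ
  rw [map_one]
  ext x
  obtain ⟨⟨b, y⟩, rfl⟩ := (coordU h).symm.surjective x
  change ρ g (b • u + y) = b • u + y
  have h1 : (res hu hQ g y : V) = y := by rw [hg]; rfl
  rw [map_add, map_smul, hu, ← coe_res hu hQ, h1]

theorem card_fix_res [Finite F] [Finite V] (h : QuadraticMap.polar Q u u ≠ 0) (hu : ∀ g, ρ g u = u)
    (hQ : ∀ g x, Q (ρ g x) = Q x) : Nat.card (fix ρ) = Nat.card F * Nat.card (fix (res hu hQ)) := by
  rw [← Nat.card_prod]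
  refine Nat.card_congr
    { toFun := fun x => ((coordU h x).1, ⟨(coordU h x).2, ?_⟩)
      invFun := fun y => ⟨(coordU h).symm (y.1, y.2), ?_⟩
      left_inv := ?_
      right_inv := ?_ }
  · intro g
    apply Subtype.ext
    rw [coe_res]
    change ρ g ((x : V) - _ • u) = (x : V) - _ • u
    rw [map_sub, map_smul, hu, x.2 g]
  · intro g
    have h3 : ((res hu hQ g (y.2 : uperp Q u) : uperp Q u) : V) = (y.2 : uperp Q u) := by rw [y.2.2 g]
    rw [coe_res] at h3
    change ρ g (y.1 • u + ((y.2 : uperp Q u) : V)) = y.1 • u + ((y.2 : uperp Q u) : V)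
    rw [map_add, map_smul, hu, h3]
  · intro x
    apply Subtype.ext
    exact (coordU h).symm_apply_apply (x : V)
  · rintro ⟨b, x, hx⟩
    have h1 := (coordU h).apply_symm_apply (b, x)
    refine Prod.ext ?_ (Subtype.ext ?_)
    · change (coordU h ((coordU h).symm (b, x))).1 = b
      rw [h1]
    · change (coordU h ((coordU h).symm (b, x))).2 = x
      rw [h1]

end res

section odd

variable {F : Type*} [Field F] [Finite F] {p : ℕ} [Fact p.Prime] [CharP F p]

/-- The exponent for `|A| |C_V(A)|`, `q` odd. -/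
def eO : ℕ → ℕ
  | 0 => 0
  | 1 => 1
  | (n + 2) => max ((n + 2) / 2 + eO n) (1 + eO (n + 1))

theorem one_add_eO (n : ℕ) : 1 + eO n ≤ eO (n + 1) := by
  cases n with
  | zero => simp [eO]
  | succ n => rw [eO]; exact le_max_right _ _

theorem eO_pred (n : ℕ) : eO (n - 1) ≤ eO n := by
  cases n with
  | zero => simp
  | succ n => rw [Nat.add_sub_cancel]; have := one_add_eO n; omega

theorem eO_formula (k : ℕ) : eO (2 * (k + 1)) = (k + 1) * (k + 2) / 2 + 1 ∧
    eO (2 * (k + 1) + 1) = (k + 1) * (k + 2) / 2 + 2 := by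
  induction k with
  | zero => simp [eO]
  | succ k ih =>
    obtain ⟨h1, h2⟩ := ih
    have h3 : (k + 1 + 1) * (k + 1 + 2) / 2 = (k + 1) * (k + 2) / 2 + (k + 2) := half (k + 1)
    have h4 : eO (2 * (k + 1 + 1)) = (k + 1 + 1) * (k + 1 + 2) / 2 + 1 := by
      have h5 : 2 * (k + 1 + 1) = 2 * (k + 1) + 2 := by ring
      rw [h5, eO, h1, h2, h3]
      omega
    refine ⟨h4, ?_⟩
    have h5 : 2 * (k + 1 + 1) + 1 = (2 * (k + 1) + 1) + 2 := by ring
    have h6 : 2 * (k + 1) + 1 + 1 = 2 * (k + 1 + 1) := by ring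
    rw [h5, eO, h6, h4, h2, h3]
    omega

/-- **Orthogonal case, `q` odd.** -/
theorem orthOdd_aux (hF : (2 : F) ≠ 0) (n : ℕ) : ∀ (V : Type u) [AddCommGroup V] [Module F V] [Finite V],
    finrank F V = n →
    ∀ Q : QuadraticForm F V, (∀ x, (∀ y, QuadraticMap.polar Q x y = 0) → x = 0) →
    ∀ (A : Type w) [CommGroup A] [Finite A], IsPGroup p A → ∀ ρ : A →* Module.End F V, Function.Injective ρ →
      (∀ g x, Q (ρ g x) = Q x) →
      Nat.card A ≤ Nat.card F ^ (eO (n - 2)) ∧ Nat.card A * Nat.card (fix ρ) ≤ Nat.card F ^ (eO n) := by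
  induction n using Nat.strong_induction_on with
  | _ n ih =>
  intro V _ _ _ hV Q hB A _ _ hA ρ hρ hQ
  have hq : 1 ≤ Nat.card F := one_lt_card.le
  -- restriction to the complement of a fixed non-singular vector
  have split : ∀ u ∈ fix ρ, Q u ≠ 0 → 0 < n ∧ Nat.card A ≤ Nat.card F ^ (eO (n - 1 - 2)) ∧
      Nat.card A * Nat.card (fix ρ) ≤ Nat.card F ^ (1 + eO (n - 1)) := by
    intro u hu hQu
    have hp := polar_self_ne hF hQu
    have hdim : finrank F V = finrank F (uperp Q u) + 1 := by
      rw [(coordU hp).finrank_eq, finrank_prod, finrank_self]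
      omega
    have hn : 0 < n := by omega
    have hnd : ∀ x : uperp Q u, (∀ y, QuadraticMap.polar (Q.comp (uperp Q u).subtype) x y = 0) → x = 0 := by
      intro x hx
      apply Subtype.ext
      apply hB
      intro y
      obtain ⟨⟨b, z⟩, rfl⟩ := (coordU hp).symm.surjective y
      change QuadraticMap.polar Q x (b • u + z) = 0
      have h1 : QuadraticMap.polar Q (x : V) u = 0 := by
        rw [QuadraticMap.polar_comm]
        exact mem_uperp.1 x.2
      have h2 : QuadraticMap.polar Q (x : V) z = 0 := hx z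
      rw [QuadraticMap.polar_add_right, QuadraticMap.polar_smul_right, h1, h2, smul_zero, add_zero]
    obtain ⟨h1, h2⟩ := ih (n - 1) (by omega) (uperp Q u) (by omega) (Q.comp (uperp Q u).subtype) hnd A hA
      (res hu hQ) (res_injective hp hu hQ hρ) (fun g x => hQ g x)
    refine ⟨hn, h1, ?_⟩
    rw [card_fix_res hp hu hQ, pow_add, pow_one]
    calc Nat.card A * (Nat.card F * Nat.card (fix (res hu hQ)))
        = Nat.card F * (Nat.card A * Nat.card (fix (res hu hQ))) := by ring
      _ ≤ _ := Nat.mul_le_mul_left _ h2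
  rcases Nat.eq_zero_or_pos n with rfl | hn
  · have : Subsingleton V := finrank_zero_iff.1 hV
    have h1 := card_le_one_of_subsingleton hρ
    have h2 : Nat.card (fix ρ) = 1 := Nat.card_unique
    rw [h1, h2]
    simp [eO]
  have hnt : Nontrivial V := by
    apply nontrivial_of_finrank_pos (R := F)
    omega
  have key : Nat.card A ≤ Nat.card F ^ (eO (n - 2)) := by
    by_cases hs : ∃ v ∈ fix ρ, v ≠ 0 ∧ Q v = 0
    · obtain ⟨v, hv, hv0, hQv⟩ := hs
      obtain ⟨y, h, hQy⟩ := exists_pair hB hQv hv0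
      have a : Act (QuadraticMap.polarBilin Q) v ρ := ⟨hv, quad_pres hQ⟩
      have hd := finrank_eq h
      obtain ⟨-, h2⟩ := ih (n - 2) (by omega) (perp (QuadraticMap.polarBilin Q) v y) (by omega)
        (Q.comp (perp (QuadraticMap.polarBilin Q) v y).subtype) (fun x hx => quad_nondeg h hB x hx)
        (A ⧸ (desc h a).ker) (hA.to_quotient _) (red (desc h a)) (red_injective _)
        (fun g => red_ind (desc h a)
          (P := fun f => ∀ x : perp (QuadraticMap.polarBilin Q) v y, Q (f x) = Q x)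
          (fun g => desc_quad h a hQv hQ g) g)
      rw [fix_red] at h2
      rw [card_eq (desc h a)]
      exact (Nat.mul_le_mul_left _ (card_ker_le_quad h a hQv hQy hQ hρ)).trans h2
    · push Not at hs
      obtain ⟨v, hv, hv0⟩ := exists_fix (p := p) hA ρ
      obtain ⟨-, h1, -⟩ := split v hv (hs v hv hv0)
      refine h1.trans (Nat.pow_le_pow_right hq ?_)
      have : n - 1 - 2 = n - 2 - 1 := by omega
      rw [this]
      exact eO_pred _
  refine ⟨key, ?_⟩
  by_cases hu : ∃ u ∈ fix ρ, Q u ≠ 0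
  · obtain ⟨u, hu, hQu⟩ := hu
    obtain ⟨-, -, h1⟩ := split u hu hQu
    refine h1.trans (Nat.pow_le_pow_right hq ?_)
    have := one_add_eO (n - 1)
    rwa [Nat.sub_add_cancel hn] at this
  · push Not at hu
    have hle : finrank F (fix ρ) ≤ n / 2 := by
      by_contra hc
      obtain ⟨x, hx, y, hy, hxy⟩ := exists_ne_zero_of_lt (B := QuadraticMap.polarBilin Q) (fun x hx => hB x hx)
        (W := fix ρ) (by omega)
      apply hxy
      rw [QuadraticMap.polarBilin_apply_apply, QuadraticMap.polar, hu _ ((fix ρ).add_mem hx hy), hu _ hx, hu _ hy]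
      ring
    have h2 : 2 ≤ n := by
      by_contra hc
      have h1 : finrank F (fix ρ) = 0 := by omega
      obtain ⟨v, hv, hv0⟩ := exists_fix (p := p) hA ρ
      rw [Submodule.finrank_eq_zero] at h1
      rw [h1] at hv
      exact hv0 hv
    obtain ⟨k, rfl⟩ : ∃ k, n = k + 2 := ⟨n - 2, by omega⟩
    rw [card_eq_pow (fix ρ), eO]
    rw [Nat.add_sub_cancel] at key
    calc Nat.card A * Nat.card F ^ finrank F (fix ρ)
        ≤ Nat.card F ^ (eO k) * Nat.card F ^ ((k + 2) / 2) := Nat.mul_le_mul key (Nat.pow_le_pow_right hq hle)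
      _ = Nat.card F ^ ((k + 2) / 2 + eO k) := by rw [← pow_add, add_comm]
      _ ≤ _ := Nat.pow_le_pow_right hq (le_max_left _ _)

end odd

section final

variable {F : Type*} [Field F] [Finite F] {V : Type*} [AddCommGroup V] [Module F V] [Finite V]

/-- The inclusion of a group of linear automorphisms. -/
def incl (A : Subgroup (V ≃ₗ[F] V)) : A →* Module.End F V where
  toFun a := (a : V ≃ₗ[F] V)
  map_one' := rfl
  map_mul' _ _ := rfl

omit [Finite F] [Finite V] in
theorem incl_injective (A : Subgroup (V ≃ₗ[F] V)) : Function.Injective (incl A) := by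
  intro a b h
  apply Subtype.ext
  ext x
  exact LinearMap.congr_fun h x

/-- **Symplectic unipotent bound.** -/
theorem symp {p : ℕ} [Fact p.Prime] [CharP F p] {m : ℕ} (hV : finrank F V = 2 * m) {B : LinearMap.BilinForm F V}
    (halt : B.IsAlt) (hB : B.Nondegenerate) (A : Subgroup (V ≃ₗ[F] V)) (hc : IsMulCommutative A)
    (hA : IsPGroup p A) (h : ∀ a ∈ A, ∀ x y, B (a x) (a y) = B x y) :
    Nat.card A ≤ Nat.card F ^ (m * (m + 1) / 2) := by
  have : Finite (V ≃ₗ[F] V) := Finite.of_injective (fun e : V ≃ₗ[F] V => (e : V → V)) DFunLike.coe_injective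
  let _ : CommGroup A := { (inferInstance : Group A) with mul_comm := fun a b => hc.is_comm.comm a b }
  exact (symp_aux (p := p) m V hV B (fun x => halt x) (fun x hx => hB.1 x hx) A hA (incl A) (incl_injective A)
    (fun g x y => h g g.2 x y)).1

/-- **Orthogonal unipotent bound**, `q` even, dimension `2 m`. -/
theorem orthEven [CharP F 2] {m : ℕ} (hV : finrank F V = 2 * m) {Q : QuadraticForm F V}
    (hB : ∀ x, (∀ y, QuadraticMap.polar Q x y = 0) → x = 0) (A : Subgroup (V ≃ₗ[F] V)) (hc : IsMulCommutative A)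
    (hA : IsPGroup 2 A) (h : ∀ a ∈ A, ∀ x, Q (a x) = Q x) :
    Nat.card A ≤ Nat.card F ^ (m * (m - 1) / 2 + 1) := by
  have : Finite (V ≃ₗ[F] V) := Finite.of_injective (fun e : V ≃ₗ[F] V => (e : V → V)) DFunLike.coe_injective
  let _ : CommGroup A := { (inferInstance : Group A) with mul_comm := fun a b => hc.is_comm.comm a b }
  exact (orthEven_aux m V hV Q hB A hA (incl A) (incl_injective A) (fun g x => h g g.2 x)).1

/-- **Orthogonal unipotent bound**, `q` odd, dimension `n`, exponent `eO (n - 2)`. -/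
theorem orthOdd {p : ℕ} [Fact p.Prime] [CharP F p] (hF : (2 : F) ≠ 0) {Q : QuadraticForm F V}
    (hB : ∀ x, (∀ y, QuadraticMap.polar Q x y = 0) → x = 0) (A : Subgroup (V ≃ₗ[F] V)) (hc : IsMulCommutative A)
    (hA : IsPGroup p A) (h : ∀ a ∈ A, ∀ x, Q (a x) = Q x) :
    Nat.card A ≤ Nat.card F ^ eO (finrank F V - 2) := by
  have : Finite (V ≃ₗ[F] V) := Finite.of_injective (fun e : V ≃ₗ[F] V => (e : V → V)) DFunLike.coe_injective
  let _ : CommGroup A := { (inferInstance : Group A) with mul_comm := fun a b => hc.is_comm.comm a b }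
  exact (orthOdd_aux (p := p) hF _ V rfl Q hB A hA (incl A) (incl_injective A) (fun g x => h g g.2 x)).1

/-- The exponent in even dimension `2 m`, `m ≥ 2`. -/
theorem eO_even {m : ℕ} (hm : 2 ≤ m) : eO (2 * m - 2) = m * (m - 1) / 2 + 1 := by
  obtain ⟨k, rfl⟩ : ∃ k, m = k + 2 := ⟨m - 2, by omega⟩
  have h1 : 2 * (k + 2) - 2 = 2 * (k + 1) := by omega
  have h2 : (k + 2) * (k + 2 - 1) = (k + 1) * (k + 2) := by
    have : k + 2 - 1 = k + 1 := by omega
    rw [this, mul_comm]
  rw [h1, (eO_formula k).1, h2]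

/-- The exponent in odd dimension `2 m + 1`, `m ≥ 2`. -/
theorem eO_odd {m : ℕ} (hm : 2 ≤ m) : eO (2 * m + 1 - 2) = m * (m - 1) / 2 + 2 := by
  obtain ⟨k, rfl⟩ : ∃ k, m = k + 2 := ⟨m - 2, by omega⟩
  have h1 : 2 * (k + 2) + 1 - 2 = 2 * (k + 1) + 1 := by omega
  have h2 : (k + 2) * (k + 2 - 1) = (k + 1) * (k + 2) := by
    have : k + 2 - 1 = k + 1 := by omega
    rw [this, mul_comm]
  rw [h1, (eO_formula k).2, h2]

end final

end Cfsg.Agent.H152.AbUni
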