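import Cfsg.Agent.H498.Ab.Uni
import Cfsg.Agent.H152.AbUni

/-!
# Abelian groups of isometries: commutative algebras with an `F`-linear involution (helper152, for S2501)

* `tri` : a finite commutative `F`-algebra with `F`-linear involution and no symmetric idempotents: three cases;
* `card_U_two` : `|U s| ≤ 2 q ^ (D - 1)`.
-/

set_option autoImplicit false
set_option linter.unusedSectionVars false

namespace Cfsg.Agent.H152.AbBase

open Cfsg.Agent.H498.Ab.Schur Cfsg.Agent.H498.Ab.Inv Cfsg.Agent.H498.Ab.Uni

universe u v w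

section alg

variable {F : Type u} [Field F] [Finite F] {C : Type v} [CommRing C] [Finite C] [Algebra F C] {s : C ≃+* C}

theorem nonunit_nilp [IsLocalRing C] {x : C} (hx : ¬ IsUnit x) : IsNilpotent x := by
  obtain ⟨N, hN, hi⟩ := exists_idem x
  have hi' : x ^ N * x ^ N = x ^ N := hi
  rcases IsLocalRing.isUnit_or_isUnit_one_sub_self (x ^ N) with h | h
  · exfalso
    exact hx ((isUnit_pow_iff (by omega)).1 h)
  · refine ⟨N, ?_⟩
    have h1 : (1 - x ^ N) * x ^ N = (1 - x ^ N) * 0 := by rw [sub_mul, one_mul, hi']; ring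
    exact h.mul_right_injective h1

/-- the nonunits of a local algebra -/
theorem card_nonunit [IsLocalRing C] : Nat.card F * Nat.card {c : C | ¬ IsUnit c} ≤ Nat.card C := by
  rw [← Nat.card_prod]
  refine Nat.card_le_card_of_injective (fun x : F × {c : C | ¬ IsUnit c} => algebraMap F C x.1 + x.2.1) ?_
  rintro ⟨x, ⟨c, hc⟩⟩ ⟨y, ⟨d, hd⟩⟩ h
  have hc' : ¬ IsUnit c := hc
  have hd' : ¬ IsUnit d := hd
  have h7 : algebraMap F C x + c = algebraMap F C y + d := h
  have h8 : x = y := by
    by_contra hxy
    have h9 : IsUnit (algebraMap F C (x - y)) := (IsUnit.mk0 _ (sub_ne_zero.2 hxy)).map _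
    have h10 : algebraMap F C (x - y) = d + -c := by
      rw [map_sub]
      linear_combination h7
    rw [h10] at h9
    exact IsLocalRing.nonunits_add hd' (fun h => hc' (by simpa using h.neg)) h9
  subst h8
  have h11 : c = d := add_left_cancel h7
  subst h11
  rfl

/-- in the third case: a unitary element is congruent to `1` or `-1` -/
theorem pm_one [IsLocalRing C] (h : ∀ c : C, ¬ IsUnit (c - s c)) {c : C} (hc : c ∈ U s) :
    ¬ IsUnit (c - 1) ∨ ¬ IsUnit (c + 1) := by
  have hc' : c * s c = 1 := hc
  by_contra hcon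
  push Not at hcon
  apply h c
  have h1 : IsUnit ((c - 1) * (c + 1)) := hcon.1.mul hcon.2
  have h2 : (c - 1) * (c + 1) = c * (c - s c) := by rw [mul_sub, hc']; ring
  rw [h2] at h1
  exact isUnit_of_mul_isUnit_right h1

theorem card_U_third [IsLocalRing C] (h : ∀ c : C, ¬ IsUnit (c - s c)) :
    Nat.card (U s) ≤ 2 * Nat.card {c : C | ¬ IsUnit c} := by
  classical
  have h2 : Nat.card (Bool × {c : C | ¬ IsUnit c}) = 2 * Nat.card {c : C | ¬ IsUnit c} := by
    rw [Nat.card_prod, Nat.card_eq_fintype_card, Fintype.card_bool]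
  rw [← h2]
  refine Nat.card_le_card_of_injective (fun u : U s => if hu : ¬ IsUnit (u.1 - 1) then (true, ⟨u.1 - 1, hu⟩) else
    (false, ⟨u.1 + 1, (pm_one h u.2).resolve_left hu⟩)) ?_
  intro u v huv
  by_cases hu : ¬ IsUnit (u.1 - 1)
  · by_cases hv : ¬ IsUnit (v.1 - 1)
    · simp only [hu, hv, not_false_eq_true, dite_true, Prod.mk.injEq, Subtype.mk.injEq, true_and] at huv
      exact Subtype.ext (by linear_combination huv)
    · simp [hu, hv] at huv
  · by_cases hv : ¬ IsUnit (v.1 - 1)
    · simp [hu, hv] at huv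
    · simp only [hu, hv, dite_false, Prod.mk.injEq, Subtype.mk.injEq, true_and] at huv
      exact Subtype.ext (by linear_combination huv)

variable (hs : ∀ c, s (s c) = c) (hF : ∀ x, s (algebraMap F C x) = algebraMap F C x)

include hs hF in
/-- **Algebras without symmetric idempotents.** -/
theorem tri (V : Type w) [AddCommGroup V] [Module C V] [Finite V] [FaithfulSMul C V] [Nontrivial V]
    (hid : ∀ e, IsIdempotentElem e → s e = e → e = 0 ∨ e = 1) {D n : ℕ} (hD : Nat.card C = Nat.card F ^ D)
    (hn : Nat.card V = Nat.card F ^ n) :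
    (∃ a d, 1 ≤ a ∧ 2 * a ≤ n ∧ 1 ≤ d ∧ D = 2 * d ∧ Nat.card (U s) < Nat.card F ^ (a ^ 2 / 4 + 1) ∧
      Nat.card (U s) < Nat.card F ^ d) ∨
    (∃ d, 1 ≤ d ∧ D = 2 * d ∧ Nat.card (U s) ≤ (Nat.card F + 1) * Nat.card F ^ (d - 1)) ∨
    (IsLocalRing C ∧ ∀ c : C, ¬ IsUnit (c - s c)) := by
  have hQ : 1 < Nat.card F := Finite.one_lt_card
  have hC : Nontrivial C := by
    by_contra h
    rw [not_nontrivial_iff_subsingleton] at h
    obtain ⟨x, y, hxy⟩ := exists_pair_ne V
    apply hxy
    rw [← one_smul C x, ← one_smul C y, Subsingleton.elim (1 : C) 0, zero_smul, zero_smul]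
  have hD1 : 1 ≤ D := by
    rcases Nat.eq_zero_or_pos D with h | h
    · rw [h, pow_zero] at hD
      have : 1 < Nat.card C := Finite.one_lt_card
      omega
    · exact h
  -- `|X| ^ 2 = q ^ D`
  have hsq : ∀ X : ℕ, Nat.card F ^ D = X ^ 2 → (∃ x, X = Nat.card F ^ x) → ∃ d, 1 ≤ d ∧ D = 2 * d ∧ X = Nat.card F ^ d := by
    rintro X h1 ⟨x, rfl⟩
    rw [← pow_mul] at h1
    have h2 := Nat.pow_right_injective hQ h1
    exact ⟨x, by omega, by omega, rfl⟩
  by_cases hloc : ∀ e : C, IsIdempotentElem e → e = 0 ∨ e = 1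
  · have := isLocalRing_of_idem hloc
    right
    by_cases h : ∃ η : C, IsUnit (η - s η)
    · left
      obtain ⟨η, hη⟩ := h
      have h1 := card_U_local hs hη (F₀ := F) hF
      have h2 := card_fix hs hη
      have h3 : ∃ x, Nat.card (Fix s) = Nat.card F ^ x := by
        let W : Submodule F C :=
          { carrier := {c | s c = c}
            add_mem' := fun {a b} ha hb => by
              show s (a + b) = a + b
              rw [map_add, show s a = a from ha, show s b = b from hb]
            zero_mem' := map_zero s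
            smul_mem' := fun c x hx => by
              show s (c • x) = c • x
              rw [Algebra.smul_def, map_mul, hF, show s x = x from hx] }
        exact ⟨Module.finrank F W, (Module.natCard_eq_pow_finrank (K := F) (V := W))⟩
      rw [hD] at h2
      obtain ⟨d, hd1, hd2, hd3⟩ := hsq _ h2 h3
      refine ⟨d, hd1, hd2, ?_⟩
      rw [hd3] at h1
      obtain ⟨d, rfl⟩ := Nat.exists_eq_add_of_le hd1
      rw [Nat.add_sub_cancel_left]
      rw [pow_add, pow_one] at h1
      have : Nat.card (U s) * Nat.card F ≤ ((Nat.card F + 1) * Nat.card F ^ d) * Nat.card F := by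
        calc _ ≤ _ := h1
          _ = _ := by ring
      exact Nat.le_of_mul_le_mul_right this (by omega)
    · right
      push Not at h
      exact ⟨this, h⟩
  · left
    push Not at hloc
    obtain ⟨e, he, he0, he1⟩ := hloc
    have hee : e * e = e := he
    have h1 : e * s e = 0 := by
      have h2 : IsIdempotentElem (e * s e) := by
        show e * s e * (e * s e) = e * s e
        have : s e * s e = s e := by rw [← map_mul, hee]
        calc e * s e * (e * s e) = (e * e) * (s e * s e) := by ring
          _ = _ := by rw [hee, this]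
      rcases hid _ h2 (by rw [map_mul, hs, mul_comm]) with h3 | h3
      · exact h3
      · exfalso
        apply he1
        calc e = e * (e * s e) := by rw [h3, mul_one]
          _ = (e * e) * s e := by ring
          _ = 1 := by rw [hee, h3]
    have h2 : e + s e = 1 := by
      have h3 : IsIdempotentElem (e + s e) := by
        show (e + s e) * (e + s e) = e + s e
        have : s e * s e = s e := by rw [← map_mul, hee]
        linear_combination hee + this + 2 * h1
      rcases hid _ h3 (by rw [map_add, hs, add_comm]) with h4 | h4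
      · exfalso
        apply he0
        have : e * (e + s e) = e := by rw [mul_add, hee, h1, add_zero]
        rw [← this, h4, mul_zero]
      · exact h4
    have h3 := card_hyp hs he h2
    have h4 := card_U_hyp hs he he0 h2
    have hpow : ∀ W : Submodule C V, ∃ a, Nat.card W = Nat.card F ^ a := by
      intro W
      let _ : Module F W := Module.compHom W (algebraMap F C)
      exact ⟨Module.finrank F W, Module.natCard_eq_pow_finrank⟩
    have hpowC : ∃ a, Nat.card (part C e) = Nat.card F ^ a := by
      let _ : Module F (part C e) := Module.compHom (part C e) (algebraMap F C)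
      exact ⟨Module.finrank F (part C e), Module.natCard_eq_pow_finrank⟩
    rw [hD] at h3
    obtain ⟨d, hd1, hd2, hd3⟩ := hsq _ h3 hpowC
    obtain ⟨a, ha⟩ := hpow (part V e)
    obtain ⟨b, hb⟩ := hpow (part V (1 - e))
    have hab : n = a + b := by
      have h1 := card_part (V := V) he
      rw [hn, ha, hb, ← pow_add] at h1
      exact Nat.pow_right_injective hQ h1
    have he1' : 1 - e ≠ 0 := fun h => he1 (sub_eq_zero.1 h).symm
    have hN1 := part_nontrivial (V := V) he0
    have hN2 := part_nontrivial (V := V) he1'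
    have hpos : ∀ (W : Submodule C V) [Nontrivial W] (a : ℕ), Nat.card W = Nat.card F ^ a → 1 ≤ a := by
      intro W _ a ha
      rcases Nat.eq_zero_or_pos a with h | h
      · exfalso
        rw [h, pow_zero] at ha
        have : 1 < Nat.card W := Finite.one_lt_card
        omega
      · exact h
    have ha1 := hpos _ a ha
    have hb1 := hpos _ b hb
    have h6 := card_part_le (F := F) V he he0 ha
    have h7 := card_part_le (F := F) V he.one_sub he1' hb
    have h8 : Nat.card (part C (1 - e)) = Nat.card (part C e) := by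
      have h9 := card_part (V := C) he
      rw [hD, h3, sq] at h9
      exact (Nat.eq_of_mul_eq_mul_left Nat.card_pos h9).symm
    rw [h8] at h7
    have h9 : ∃ m, 1 ≤ m ∧ 2 * m ≤ n ∧ Nat.card (part C e) ≤ Nat.card F ^ (m ^ 2 / 4 + 1) := by
      rcases le_total a b with h | h
      · exact ⟨a, ha1, by omega, h6⟩
      · exact ⟨b, hb1, by omega, h7⟩
    obtain ⟨m, hm1, hm2, hm⟩ := h9
    exact ⟨m, d, hm1, hm2, hd1, hd2, by omega, by omega⟩

end alg

/-- **The bound by the dimension of the algebra.** -/
theorem card_U_two {F : Type u} [Field F] [Finite F] (C : Type v) [CommRing C] [Finite C] [Algebra F C] (s : C ≃+* C)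
    (V : Type w) [AddCommGroup V] [Module C V] [Finite V] [FaithfulSMul C V] [Nontrivial V] (hs : ∀ c, s (s c) = c)
    (hF : ∀ x, s (algebraMap F C x) = algebraMap F C x) (D n : ℕ) (hD : Nat.card C = Nat.card F ^ D)
    (hn : Nat.card V = Nat.card F ^ n) : Nat.card (U s) ≤ 2 * Nat.card F ^ (D - 1) := by
  have hQ : 1 < Nat.card F := Finite.one_lt_card
  refine U_rec (F := F) id (fun D _ => 2 * Nat.card F ^ (D - 1)) ?_ ?_ n C s V hs hF D hD hn
  · intro D₁ _ D₂ _ h1 _ h2 _
    obtain ⟨a, rfl⟩ := Nat.exists_eq_add_of_le h1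
    obtain ⟨b, rfl⟩ := Nat.exists_eq_add_of_le h2
    have e1 : 1 + a + (1 + b) - 1 = a + b + 1 := by omega
    rw [Nat.add_sub_cancel_left, Nat.add_sub_cancel_left, e1, pow_succ, pow_add]
    calc 2 * Nat.card F ^ a * (2 * Nat.card F ^ b) = 2 * (Nat.card F ^ a * Nat.card F ^ b) * 2 := by ring
      _ ≤ 2 * (Nat.card F ^ a * Nat.card F ^ b) * Nat.card F := Nat.mul_le_mul_left _ hQ
      _ = _ := by ring
  · intro C _ _ _ s V _ _ _ _ _ hs hF hid D n hD hn
    show Nat.card (U s) ≤ 2 * Nat.card F ^ (D - 1)
    rcases tri (F := F) hs hF V hid hD hn with ⟨a, d, _, _, hd, hDd, _, h⟩ | ⟨d, hd, hDd, h⟩ | ⟨hl, h⟩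
    · have h1 : Nat.card F ^ d ≤ Nat.card F ^ (D - 1) := Nat.pow_le_pow_right hQ.le (by omega)
      omega
    · obtain ⟨d, rfl⟩ := Nat.exists_eq_add_of_le hd
      rw [Nat.add_sub_cancel_left] at h
      have h1 : Nat.card F ^ (d + 1) ≤ Nat.card F ^ (D - 1) := Nat.pow_le_pow_right hQ.le (by omega)
      have h2 : (Nat.card F + 1) * Nat.card F ^ d ≤ 2 * Nat.card F ^ (d + 1) := by
        rw [pow_succ]
        nlinarith [Nat.zero_le (Nat.card F ^ d)]
      omega
    · have h1 := card_U_third h
      have h2 := card_nonunit (F := F) (C := C)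
      have hD1 : 1 ≤ D := by
        rcases Nat.eq_zero_or_pos D with h | h
        · rw [h, pow_zero] at hD
          have : 1 < Nat.card C := Finite.one_lt_card
          omega
        · exact h
      rw [hD] at h2
      obtain ⟨D, rfl⟩ := Nat.exists_eq_add_of_le hD1
      rw [Nat.add_sub_cancel_left]
      rw [pow_add, pow_one] at h2
      have h3 : Nat.card {c : C | ¬ IsUnit c} ≤ Nat.card F ^ D := Nat.le_of_mul_le_mul_left h2 (by omega)
      omega

end Cfsg.Agent.H152.AbBase
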