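import Cfsg.Agent.H152.AbRow
import Cfsg.Agent.H498.Ab.Def
import Cfsg.Agent.LieClassical.SympCenter
import Cfsg.Agent.LieClassical.SympCount
import Cfsg.Agent.LieClassical.OrthCenter
import Cfsg.Agent.LieClassical.OrthForms
import Cfsg.Agent.LieClassical.OmegaReindex

/-!
# The rows `PSp`, `POmega` of S2501 (helper152)
-/

set_option autoImplicit false
set_option linter.unusedSectionVars false

namespace Cfsg.Agent.H152.AbClassical

open Module Cfsg.Agent.H498.Ab Cfsg.Agent.H152.AbRow Cfsg.Agent.LieClassical Subgroup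

/-- matrices as endomorphisms -/
def rhoM (ι : Type) [Fintype ι] [DecidableEq ι] (F : Type*) [Field F] : Matrix ι ι F →* Module.End F (ι → F) where
  toFun M := Matrix.mulVecLin M
  map_one' := Matrix.mulVecLin_one
  map_mul' M N := Matrix.mulVecLin_mul M N

theorem rhoM_apply {ι : Type} [Fintype ι] [DecidableEq ι] {F : Type*} [Field F] (M : Matrix ι ι F) (x : ι → F) :
    rhoM ι F M x = Matrix.mulVec M x := rfl

theorem rhoM_injective {ι : Type} [Fintype ι] [DecidableEq ι] {F : Type*} [Field F] :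
    Function.Injective (rhoM ι F) := fun _ _ h => Matrix.toLin'.injective h

theorem rhoM_smul {ι : Type} [Fintype ι] [DecidableEq ι] {F : Type*} [Field F] (c : F) :
    rhoM ι F (c • 1) = c • 1 := by
  apply LinearMap.ext
  intro x
  rw [rhoM_apply, Matrix.smul_mulVec, Matrix.one_mulVec]
  rfl

/-! ### symplectic groups -/

section sp

/-- the representation of `Sp` -/
def rhoS (m : ℕ) (F : Type*) [Field F] : Matrix.symplecticGroup (Fin m) F →* Module.End F (Fin m ⊕ Fin m → F) :=
  (rhoM (Fin m ⊕ Fin m) F).comp (Matrix.symplecticGroup (Fin m) F).subtype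

variable {F : Type*} [Field F] {m : ℕ}

theorem rhoS_apply (g : Matrix.symplecticGroup (Fin m) F) (x : Fin m ⊕ Fin m → F) :
    rhoS m F g x = Matrix.mulVec g.1 x := rfl

theorem rhoS_injective : Function.Injective (rhoS m F) := fun _ _ h => Subtype.ext (rhoM_injective h)

theorem rhoS_pres (g : Matrix.symplecticGroup (Fin m) F) (x y : Fin m ⊕ Fin m → F) :
    SympCount.stdForm m F (rhoS m F g x) (rhoS m F g y) = SympCount.stdForm m F x y := by
  have h := SymplecticGroup.mem_iff'.1 g.2
  rw [SympCount.stdForm, Matrix.toBilin'_apply', Matrix.toBilin'_apply', rhoS_apply, rhoS_apply,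
    Matrix.mulVec_mulVec, Matrix.dotProduct_mulVec, Matrix.dotProduct_mulVec, ← Matrix.vecMul_transpose,
    Matrix.vecMul_vecMul, ← Matrix.mul_assoc, h]

theorem rhoS_center (z : Matrix.symplecticGroup (Fin m) F) (hz : z ∈ center (Matrix.symplecticGroup (Fin m) F)) :
    ∃ c : F, rhoS m F z = c • 1 := by
  obtain ⟨c, hc⟩ := (SympCenter.mem_center_iff m z).1 hz
  refine ⟨c, ?_⟩
  show rhoM _ F z.1 = _
  rw [hc, rhoM_smul]

/-- **The row `PSp`.** -/
theorem ab3_PSp {F : Type*} [Field F] [Fintype F] {m : ℕ} (hm : 2 ≤ m) (h : m = 2 → 3 ≤ Fintype.card F) :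
    Ab3 (PSp m F) := by
  intro A hA
  have hn : finrank F (Fin m ⊕ Fin m → F) = 2 * m := by
    rw [Module.finrank_fintype_fun_eq_card, Fintype.card_sum, Fintype.card_fin]
    ring
  have hcF : Nat.card F = Fintype.card F := Nat.card_eq_fintype_card
  have : Finite (Matrix.symplecticGroup (Fin m) F) := inferInstance
  rcases Nat.even_or_odd (Fintype.card F) with he | ho
  · have hchar : CharP F 2 := by
      have h1 : ringChar F = 2 := (FiniteField.even_card_iff_char_two (F := F)).2 (Nat.even_iff.1 he)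
      rw [← h1]
      exact ringChar.charP F
    have h1 := symp_row_even (rhoS_injective (m := m) (F := F)) (SympCount.stdForm_self m)
      (SympCount.stdForm_nondeg m) rhoS_pres rhoS_center hm hn A hA
    rw [hcF] at h1
    exact (Nat.pow_le_pow_left h1 3).trans_lt (AbNum.psp_even rfl he hm h)
  · have hq := AbNum.three_le_of_odd (F := F) rfl ho
    have hcen : Nat.card (center (Matrix.symplecticGroup (Fin m) F)) = 2 := by
      rw [SympCenter.card_center (by omega)]
      have : 2 ∣ Fintype.card F - 1 := by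
        obtain ⟨k, hk⟩ := ho
        exact ⟨k, by omega⟩
      exact Nat.gcd_eq_left this
    have h1 := symp_row_odd (rhoS_injective (m := m) (F := F)) (SympCount.stdForm_self m)
      (SympCount.stdForm_nondeg m) rhoS_pres rhoS_center hcen (by rw [hcF]; exact hq) hm hn A hA
    rw [hcF] at h1
    exact (Nat.pow_le_pow_left h1 3).trans_lt (AbNum.psp_odd rfl ho hm)

end sp

/-! ### orthogonal groups -/

section orth

variable {F : Type*} [Field F] [Fintype F] {ι : Type} [Fintype ι] [DecidableEq ι]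

/-- the representation of `Omega` -/
def rhoO (Q : (ι → F) → F) : Omega F Q →* Module.End F (ι → F) :=
  ((rhoM ι F).comp (Units.coeHom (Matrix ι ι F))).comp ((isometryGroup F Q).subtype.comp (Omega F Q).subtype)

theorem rhoO_eq (Q : (ι → F) → F) (z : Omega F Q) :
    rhoO Q z = rhoM ι F (((z : isometryGroup F Q) : Matrix.GeneralLinearGroup ι F) : Matrix ι ι F) := rfl

theorem rhoO_injective (Q : (ι → F) → F) : Function.Injective (rhoO Q) := fun _ _ h =>
  Subtype.ext (Subtype.ext (Units.ext (rhoM_injective h)))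

theorem rhoO_pres (Q : (ι → F) → F) (z : Omega F Q) (x : ι → F) : Q (rhoO Q z x) = Q x := z.1.2 x 0

theorem rhoO_center {Q : QuadraticForm F (ι → F)} (hQ : OrthCore.Nondeg Q) (hn : 3 ≤ Fintype.card ι)
    (hs : ∃ u : ι → F, u ≠ 0 ∧ Q u = 0) (z : Omega F (⇑Q)) (hz : z ∈ center (Omega F (⇑Q))) :
    ∃ c : F, rhoO (⇑Q) z = c • 1 := by
  rcases (OrthCenter.mem_center_omega_iff (OmegaReindex.nondegenerate_of_left _ hQ) hn hs z).1 hz with h | h
  · refine ⟨1, ?_⟩
    rw [rhoO_eq, h, map_one, one_smul]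
  · refine ⟨-1, ?_⟩
    rw [rhoO_eq, h]
    have : (-1 : Matrix ι ι F) = (-1 : F) • 1 := by rw [neg_smul, one_smul]
    rw [this, rhoM_smul]

theorem pomega_le_odd {Q : QuadraticForm F (ι → F)} (hQ : OrthCore.Nondeg Q) (hodd : Odd (Fintype.card F))
    (hn : 7 ≤ Fintype.card ι) (hs : ∃ u : ι → F, u ≠ 0 ∧ Q u = 0) (A : Subgroup (POmega F (⇑Q)))
    (hA : IsMulCommutative A) : Nat.card A ≤ 2 * Fintype.card F ^ AbNum.g (Fintype.card ι) := by
  have hcF : Nat.card F = Fintype.card F := Nat.card_eq_fintype_card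
  have hq := AbNum.three_le_of_odd (F := F) rfl hodd
  have h2 : (2 : F) ≠ 0 := by
    intro h2
    have h3 : ringChar F = 2 := by
      have h4 : ringChar F ∣ 2 := by
        rw [← ringChar.spec]
        exact_mod_cast h2
      have h5 := CharP.char_is_prime F (ringChar F)
      exact (Nat.prime_dvd_prime_iff_eq h5 Nat.prime_two).1 h4
    have h6 := (FiniteField.even_card_iff_char_two (F := F)).1 h3
    rw [Nat.odd_iff] at hodd
    omega
  have h1 := orth_row_odd (rhoO_injective (⇑Q)) h2 hQ (rhoO_pres (⇑Q)) (rhoO_center hQ (by omega) hs)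
    (by rw [hcF]; exact hq) (by rw [Module.finrank_fintype_fun_eq_card]; exact hn) A hA
  rwa [hcF, Module.finrank_fintype_fun_eq_card] at h1

theorem pomega_le_even {Q : QuadraticForm F (ι → F)} (hQ : OrthCore.Nondeg Q) (heven : Even (Fintype.card F))
    (hn : 3 ≤ Fintype.card ι) (hs : ∃ u : ι → F, u ≠ 0 ∧ Q u = 0) (A : Subgroup (POmega F (⇑Q)))
    (hA : IsMulCommutative A) :
    Nat.card A ≤ (Fintype.card F + 1) * Fintype.card F ^ (AbNum.g (Fintype.card ι) - 1) := by
  have hcF : Nat.card F = Fintype.card F := Nat.card_eq_fintype_card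
  have hchar : CharP F 2 := by
    have h1 : ringChar F = 2 := (FiniteField.even_card_iff_char_two (F := F)).2 (Nat.even_iff.1 heven)
    rw [← h1]
    exact ringChar.charP F
  have h1 := orth_row_even (rhoO_injective (⇑Q)) hQ (rhoO_pres (⇑Q)) (rhoO_center hQ hn hs)
    (by rw [Module.finrank_fintype_fun_eq_card]; omega) A hA
  rwa [hcF, Module.finrank_fintype_fun_eq_card] at h1

/-- **The row `POmega_{2m+1}(q)`.** -/
theorem ab3_POmegaOdd {m : ℕ} (hm : 3 ≤ m) (hodd : Odd (Fintype.card F)) : Ab3 (POmega F (quadFormOdd m F)) := by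
  intro A hA
  have h2 : (2 : F) ≠ 0 := by
    intro h2
    have h3 : ringChar F = 2 := by
      have h4 : ringChar F ∣ 2 := by
        rw [← ringChar.spec]
        exact_mod_cast h2
      have h5 := CharP.char_is_prime F (ringChar F)
      exact (Nat.prime_dvd_prime_iff_eq h5 Nat.prime_two).1 h4
    have h6 := (FiniteField.even_card_iff_char_two (F := F)).1 h3
    rw [Nat.odd_iff] at hodd
    omega
  have hN := AbNum.pomega_odd (F := F) rfl hodd hm
  have hc : Fintype.card (Unit ⊕ (Fin m ⊕ Fin m)) = 2 * m + 1 := by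
    simp only [Fintype.card_sum, Fintype.card_fin, Fintype.card_unit]
    ring
  have hs : ∃ u : Unit ⊕ (Fin m ⊕ Fin m) → F, u ≠ 0 ∧ OrthForms.oddForm m F u = 0 := by
    refine ⟨Pi.single (Sum.inr (Sum.inl ⟨0, by omega⟩)) 1, ?_, ?_⟩
    · intro h
      have := congrFun h (Sum.inr (Sum.inl ⟨0, by omega⟩))
      simp at this
    · rw [OrthForms.coe_oddForm, OrthForms.quadFormOdd_apply]
      simp
  revert A hN
  rw [← OrthForms.coe_oddForm m F]
  intro A hA hN
  have h1 := pomega_le_odd (OrthForms.nondeg_oddForm m F h2) hodd (by omega) hs A hA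
  rw [hc, AbNum.g_odd hm] at h1
  exact (Nat.pow_le_pow_left h1 3).trans_lt hN

/-- **The row `POmega⁺_{2m}(q)`.** -/
theorem ab3_POmegaPlus {m : ℕ} (hm : 4 ≤ m) : Ab3 (POmega F (quadFormPlus m F)) := by
  intro A hA
  have hc : Fintype.card (Fin m ⊕ Fin m) = 2 * m := by
    simp only [Fintype.card_sum, Fintype.card_fin]
    ring
  have hs : ∃ u : Fin m ⊕ Fin m → F, u ≠ 0 ∧ OrthForms.plusForm m F u = 0 := by
    refine ⟨Pi.single (Sum.inl ⟨0, by omega⟩) 1, ?_, ?_⟩
    · intro h
      have := congrFun h (Sum.inl ⟨0, by omega⟩)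
      simp at this
    · rw [OrthForms.coe_plusForm, OrthForms.quadFormPlus_apply]
      simp
  rcases Nat.even_or_odd (Fintype.card F) with he | ho
  · have hN := AbNum.pomega_plus_even (F := F) rfl he hm
    revert A hN
    rw [← OrthForms.coe_plusForm m F]
    intro A hA hN
    have h1 := pomega_le_even (OrthForms.nondeg_plusForm m F) he (by omega) hs A hA
    rw [hc, AbNum.g_even hm] at h1
    exact (Nat.pow_le_pow_left h1 3).trans_lt hN
  · have hN := AbNum.pomega_plus_odd (F := F) rfl ho hm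
    revert A hN
    rw [← OrthForms.coe_plusForm m F]
    intro A hA hN
    have h1 := pomega_le_odd (OrthForms.nondeg_plusForm m F) ho (by omega) hs A hA
    rw [hc, AbNum.g_even hm] at h1
    exact (Nat.pow_le_pow_left h1 3).trans_lt hN

/-- **The row `POmega⁻_{2m+2}(q)`.** -/
theorem ab3_POmegaMinus {m : ℕ} (hm : 3 ≤ m) (a b : F)
    (hab : ∀ z₁ z₂ : F, z₁ ^ 2 + a * z₁ * z₂ + b * z₂ ^ 2 = 0 → z₁ = 0 ∧ z₂ = 0) :
    Ab3 (POmega F (quadFormMinus m F a b)) := by
  intro A hA
  have hc : Fintype.card ((Fin m ⊕ Fin m) ⊕ Fin 2) = 2 * (m + 1) := by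
    simp only [Fintype.card_sum, Fintype.card_fin]
    ring
  have hs : ∃ u : (Fin m ⊕ Fin m) ⊕ Fin 2 → F, u ≠ 0 ∧ OrthForms.minusForm m F a b u = 0 := by
    refine ⟨Pi.single (Sum.inl (Sum.inl ⟨0, by omega⟩)) 1, ?_, ?_⟩
    · intro h
      have := congrFun h (Sum.inl (Sum.inl ⟨0, by omega⟩))
      simp at this
    · rw [OrthForms.coe_minusForm, OrthForms.quadFormMinus_apply]
      simp
  rcases Nat.even_or_odd (Fintype.card F) with he | ho
  · have hN := AbNum.pomega_minus_even (F := F) rfl he hm a b hab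
    revert A hN
    rw [← OrthForms.coe_minusForm m F]
    intro A hA hN
    have h1 := pomega_le_even (OrthForms.nondeg_minusForm m F a b hab) he (by omega) hs A hA
    rw [hc, AbNum.g_even (by omega)] at h1
    exact (Nat.pow_le_pow_left h1 3).trans_lt hN
  · have hN := AbNum.pomega_minus_odd (F := F) rfl ho hm a b hab
    revert A hN
    rw [← OrthForms.coe_minusForm m F]
    intro A hA hN
    have h1 := pomega_le_odd (OrthForms.nondeg_minusForm m F a b hab) ho (by omega) hs A hA
    rw [hc, AbNum.g_even (by omega)] at h1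
    exact (Nat.pow_le_pow_left h1 3).trans_lt hN

end orth

end Cfsg.Agent.H152.AbClassical
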