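import Mathlib

/-!
# Abelian groups of isometries: descent to `v^⊥ / v` (helper152, for S2501)

A commutative group `A` acts on `V` by `ρ : A →* Module.End F V`, preserving a reflexive bilinear form `B` and fixing `v`;
`w` is a second vector with `B v w = 1`, `B v v = B w w = 0`.

* `perp B v w` : the orthogonal complement of `v`, `w`;
* `desc` : the action of `A` on `perp B v w ≅ v^⊥ / v`;
* `fix ρ` : the fixed vectors;
* `apply_ker`, `fix_proj` : the kernel of `desc` is described by `g ↦ g w`, the projection of `g w` is fixed by `A`;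
* `card_ker_le` : `|ker desc| ≤ q |fix desc|`.
-/

set_option autoImplicit false

namespace Cfsg.Agent.H152.AbDesc

open Module

section fixed

variable {F : Type*} [Field F] {V : Type*} [AddCommGroup V] [Module F V] {A : Type*} [Group A]

/-- The fixed vectors. -/
def fix (ρ : A →* Module.End F V) : Submodule F V where
  carrier := {x | ∀ g, ρ g x = x}
  add_mem' := fun {a b} ha hb g => by rw [map_add, ha, hb]
  zero_mem' := fun g => map_zero _
  smul_mem' := fun c x hx g => by rw [map_smul, hx]

theorem mem_fix {ρ : A →* Module.End F V} {x : V} : x ∈ fix ρ ↔ ∀ g, ρ g x = x := Iff.rfl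

theorem exists_fix [Finite V] [Nontrivial V] {p : ℕ} [Fact p.Prime] [CharP F p] (hA : IsPGroup p A)
    (ρ : A →* Module.End F V) : ∃ v ∈ fix ρ, v ≠ 0 := by
  let _ : MulAction A V :=
    { smul := fun g x => ρ g x
      one_smul := fun x => by change ρ 1 x = x; rw [map_one]; rfl
      mul_smul := fun g h x => by change ρ (g * h) x = ρ g (ρ h x); rw [map_mul]; rfl }
  have hsm : ∀ (g : A) (x : V), g • x = ρ g x := fun _ _ => rfl
  have hp : p ∣ Nat.card V := by
    obtain ⟨x, hx⟩ := exists_ne (0 : V)
    have h1 : p • x = 0 := by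
      rw [← Nat.cast_smul_eq_nsmul F, CharP.cast_eq_zero, zero_smul]
    rw [← addOrderOf_eq_prime h1 hx]
    exact addOrderOf_dvd_natCard x
  have h0 : (0 : V) ∈ MulAction.fixedPoints A V := fun g => by rw [hsm, map_zero]
  obtain ⟨b, hb, hb0⟩ := hA.exists_fixed_point_of_prime_dvd_card_of_fixed_point V hp h0
  exact ⟨b, fun g => hb g, fun h => hb0 h.symm⟩

/-- The faithful quotient. -/
def red (σ : A →* Module.End F V) : A ⧸ σ.ker →* Module.End F V := QuotientGroup.lift σ.ker σ le_rfl

@[simp] theorem red_mk (σ : A →* Module.End F V) (g : A) : red σ (QuotientGroup.mk g) = σ g := rfl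

theorem red_injective (σ : A →* Module.End F V) : Function.Injective (red σ) := by
  rw [injective_iff_map_eq_one]
  intro a ha
  obtain ⟨g, rfl⟩ := QuotientGroup.mk_surjective a
  exact (QuotientGroup.eq_one_iff _).2 ha

theorem fix_red (σ : A →* Module.End F V) : fix (red σ) = fix σ := by
  ext x
  rw [mem_fix, mem_fix]
  constructor
  · intro h g
    exact h (QuotientGroup.mk g)
  · intro h a
    obtain ⟨g, rfl⟩ := QuotientGroup.mk_surjective a
    exact h g

theorem red_ind (σ : A →* Module.End F V) {P : Module.End F V → Prop} (h : ∀ g, P (σ g)) (a : A ⧸ σ.ker) :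
    P (red σ a) := by
  obtain ⟨g, rfl⟩ := QuotientGroup.mk_surjective a
  exact h g

theorem card_eq (σ : A →* Module.End F V) : Nat.card A = Nat.card (A ⧸ σ.ker) * Nat.card σ.ker :=
  Subgroup.card_eq_card_quotient_mul_card_subgroup _

end fixed

section descent

variable {F : Type*} [Field F] {V : Type*} [AddCommGroup V] [Module F V]

/-- The orthogonal complement of `v` and `w`. -/
def perp (B : LinearMap.BilinForm F V) (v w : V) : Submodule F V :=
  LinearMap.ker (B v) ⊓ LinearMap.ker (B.flip w)

variable {B : LinearMap.BilinForm F V} {v w : V}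

theorem mem_perp {x : V} : x ∈ perp B v w ↔ B v x = 0 ∧ B x w = 0 := by
  rw [perp, Submodule.mem_inf, LinearMap.mem_ker, LinearMap.mem_ker]
  rfl

/-- A hyperbolic pair of a reflexive form. -/
structure HP (B : LinearMap.BilinForm F V) (v w : V) : Prop where
  refl : ∀ x y, B x y = 0 → B y x = 0
  vv : B v v = 0
  ww : B w w = 0
  vw : B v w = 1

/-- The projection on `perp B v w`. -/
def proj (h : HP B v w) : V →ₗ[F] perp B v w :=
  LinearMap.codRestrict _ (LinearMap.id - (B.flip w).smulRight v - (B v).smulRight w) fun x => by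
    rw [mem_perp]
    simp [h.vv, h.ww, h.vw]

theorem proj_apply (h : HP B v w) (x : V) : (proj h x : V) = x - B x w • v - B v x • w := by
  simp [proj]

theorem eq_add (h : HP B v w) (x : V) : x = B x w • v + B v x • w + proj h x := by
  rw [proj_apply]; abel

theorem proj_v (h : HP B v w) : proj h v = 0 := by
  apply Subtype.ext
  rw [proj_apply, h.vw, h.vv]
  simp

theorem proj_w (h : HP B v w) : proj h w = 0 := by
  apply Subtype.ext
  rw [proj_apply, h.vw, h.ww]
  simp

theorem proj_coe (h : HP B v w) (x : perp B v w) : proj h x = x := by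
  apply Subtype.ext
  obtain ⟨h1, h2⟩ := mem_perp.1 x.2
  rw [proj_apply, h1, h2]
  simp

/-- Coordinates. -/
def coord (h : HP B v w) : V ≃ₗ[F] F × F × perp B v w where
  toFun x := (B x w, B v x, proj h x)
  invFun y := y.1 • v + y.2.1 • w + y.2.2
  map_add' x y := by simp
  map_smul' a x := by simp
  left_inv x := (eq_add h x).symm
  right_inv := by
    rintro ⟨a, b, x⟩
    obtain ⟨h1, h2⟩ := mem_perp.1 x.2
    simp [h.vw, h.vv, h.ww, h1, h2, proj_v, proj_w, proj_coe]

theorem finrank_eq [FiniteDimensional F V] (h : HP B v w) :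
    finrank F V = finrank F (perp B v w) + 2 := by
  rw [(coord h).finrank_eq, finrank_prod, finrank_prod, finrank_self]
  omega

theorem nondeg (h : HP B v w) (hB : ∀ x, (∀ y, B x y = 0) → x = 0) (x : perp B v w)
    (hx : ∀ y : perp B v w, B x y = 0) : x = 0 := by
  apply Subtype.ext
  apply hB
  intro y
  obtain ⟨h1, h2⟩ := mem_perp.1 x.2
  rw [eq_add h y, map_add, map_add, map_smul, map_smul, hx, h2, h.refl _ _ h1]
  simp

variable {A : Type*} [Group A] {ρ : A →* Module.End F V}

/-- `A` fixes `v` and preserves `B`. -/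
structure Act (B : LinearMap.BilinForm F V) (v : V) (ρ : A →* Module.End F V) : Prop where
  fixv : ∀ g, ρ g v = v
  pres : ∀ g x y, B (ρ g x) (ρ g y) = B x y

theorem Act.right (a : Act B v ρ) (g : A) (x : V) : B v (ρ g x) = B v x := by
  conv_lhs => rw [← a.fixv g]
  exact a.pres g v x

theorem Act.left (a : Act B v ρ) (g : A) (x : V) : B (ρ g x) v = B x v := by
  conv_lhs => rw [← a.fixv g]
  exact a.pres g x v

theorem proj_ρ (h : HP B v w) (a : Act B v ρ) (g : A) (x : V) :
    proj h (ρ g (proj h x)) = proj h (ρ g x) - B v x • proj h (ρ g w) := by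
  have h1 := congrArg (fun y => proj h (ρ g y)) (eq_add h x)
  simp only [map_add, map_smul, a.fixv, proj_v, smul_zero, zero_add] at h1
  rw [h1]; abel

/-- The action on `v^⊥ / v`. -/
def desc (h : HP B v w) (a : Act B v ρ) : A →* Module.End F (perp B v w) where
  toFun g := (proj h).comp ((ρ g).comp (perp B v w).subtype)
  map_one' := by
    ext x : 1
    simp [proj_coe]
  map_mul' g k := by
    ext x : 1
    have hx := (mem_perp.1 x.2).1
    simp only [LinearMap.comp_apply, Submodule.subtype_apply, map_mul, Module.End.mul_apply]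
    rw [proj_ρ h a, a.right, hx, zero_smul, sub_zero]

theorem desc_apply (h : HP B v w) (a : Act B v ρ) (g : A) (x : perp B v w) :
    desc h a g x = proj h (ρ g x) := rfl

theorem coe_desc (h : HP B v w) (a : Act B v ρ) (g : A) (x : perp B v w) :
    (desc h a g x : V) = ρ g x - B (ρ g x) w • v := by
  rw [desc_apply, proj_apply, a.right, (mem_perp.1 x.2).1, zero_smul, sub_zero]

theorem desc_pres (h : HP B v w) (a : Act B v ρ) (g : A) (x y : perp B v w) :
    B (desc h a g x) (desc h a g y) = B x y := by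
  obtain ⟨h1, -⟩ := mem_perp.1 x.2
  obtain ⟨h3, -⟩ := mem_perp.1 y.2
  rw [coe_desc, coe_desc]
  simp only [map_sub, map_smul, LinearMap.sub_apply, LinearMap.smul_apply, a.pres, a.left, a.right, h3,
    h.refl _ _ h1, h.vv, smul_zero, sub_zero]

theorem apply_of_ker (h : HP B v w) (a : Act B v ρ) {g : A} (hg : g ∈ (desc h a).ker) (x : perp B v w) :
    ρ g x = x - B x (ρ g w) • v := by
  have h1 : (desc h a g x : V) = x := by
    rw [MonoidHom.mem_ker.1 hg]; rfl
  rw [coe_desc] at h1
  have h2 : ρ g x = x + B (ρ g x) w • v := sub_eq_iff_eq_add.1 h1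
  have h3 : B (ρ g x) (ρ g w) = 0 := by rw [a.pres]; exact (mem_perp.1 x.2).2
  have h4 : B v (ρ g w) = 1 := by rw [a.right, h.vw]
  rw [h2, map_add, map_smul, LinearMap.add_apply, LinearMap.smul_apply, h4, smul_eq_mul, mul_one] at h3
  rw [h2]
  have h5 : B (ρ g x) w = - B x (ρ g w) := by
    rw [eq_neg_iff_add_eq_zero, add_comm]
    exact h3
  rw [h5, neg_smul, sub_eq_add_neg]

/-- An element of the kernel is determined by the image of `w`. -/
theorem ker_ext (h : HP B v w) (a : Act B v ρ) (hρ : Function.Injective ρ) {g k : A}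
    (hg : g ∈ (desc h a).ker) (hk : k ∈ (desc h a).ker) (hw : ρ g w = ρ k w) : g = k := by
  apply hρ
  ext x
  rw [eq_add h x]
  simp only [map_add, map_smul, a.fixv, hw, apply_of_ker h a hg, apply_of_ker h a hk]

end descent

section comm

variable {F : Type*} [Field F] {V : Type*} [AddCommGroup V] [Module F V] {B : LinearMap.BilinForm F V} {v w : V}
  {A : Type*} [CommGroup A] {ρ : A →* Module.End F V}

theorem fix_proj (h : HP B v w) (a : Act B v ρ) {k : A} (hk : k ∈ (desc h a).ker) :
    proj h (ρ k w) ∈ fix (desc h a) := by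
  intro g
  rw [desc_apply, proj_ρ h a, a.right, h.vw, one_smul]
  have h1 : ρ g (ρ k w) = ρ k (ρ g w) := by
    rw [← Module.End.mul_apply, ← Module.End.mul_apply, ← map_mul, ← map_mul, mul_comm]
  rw [h1, sub_eq_iff_eq_add]
  have h2 := congrArg (fun y => proj h (ρ k y)) (eq_add h (ρ g w))
  simp only [map_add, map_smul, a.fixv, proj_v, smul_zero, zero_add, a.right, h.vw, one_smul,
    apply_of_ker h a hk, map_sub, sub_zero, proj_coe] at h2
  exact h2

/-- `|ker desc| ≤ q |fix desc|`. -/
theorem card_ker_le [Finite F] [Finite V] (h : HP B v w) (a : Act B v ρ) (hρ : Function.Injective ρ) :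
    Nat.card (desc h a).ker ≤ Nat.card F * Nat.card (fix (desc h a)) := by
  rw [← Nat.card_prod]
  let f : (desc h a).ker → F × fix (desc h a) := fun k => (B (ρ k w) w, ⟨proj h (ρ k w), fix_proj h a k.2⟩)
  apply Nat.card_le_card_of_injective f
  rintro ⟨g, hg⟩ ⟨k, hk⟩ hgk
  apply Subtype.ext
  apply ker_ext h a hρ hg hk
  have h1 : B (ρ g w) w = B (ρ k w) w := congrArg Prod.fst hgk
  have h2 : proj h (ρ g w) = proj h (ρ k w) := congrArg (fun y => (y.2 : perp B v w)) hgk
  rw [eq_add h (ρ g w), eq_add h (ρ k w), h1, h2, a.right, a.right]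

/-- If both vectors are fixed the descended action is faithful and loses a plane of fixed vectors. -/
theorem ker_eq_bot (h : HP B v w) (a : Act B v ρ) (hρ : Function.Injective ρ) (hw : ∀ g, ρ g w = w) :
    Function.Injective (desc h a) := by
  rw [injective_iff_map_eq_one]
  intro g hg
  exact ker_ext h a hρ (MonoidHom.mem_ker.2 hg) (one_mem _) (by rw [hw, hw])

theorem desc_of_fix (h : HP B v w) (a : Act B v ρ) (hw : ∀ g, ρ g w = w) (g : A) (x : perp B v w) :
    (desc h a g x : V) = ρ g x := by
  have h1 : B (ρ g x) w = 0 := by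
    have h2 := a.pres g x w
    rw [hw] at h2
    rw [h2]
    exact (mem_perp.1 x.2).2
  rw [coe_desc, h1, zero_smul, sub_zero]

theorem card_fix [Finite F] [Finite V] (h : HP B v w) (a : Act B v ρ) (hw : ∀ g, ρ g w = w) :
    Nat.card (fix ρ) = Nat.card F ^ 2 * Nat.card (fix (desc h a)) := by
  have h1 : Nat.card (F × F × fix (desc h a)) = Nat.card F ^ 2 * Nat.card (fix (desc h a)) := by
    rw [Nat.card_prod, Nat.card_prod]; ring
  rw [← h1]
  refine Nat.card_congr
    { toFun := fun x => (B x w, B v x, ⟨proj h x, ?_⟩)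
      invFun := fun y => ⟨y.1 • v + y.2.1 • w + (y.2.2 : perp B v w), ?_⟩
      left_inv := ?_
      right_inv := ?_ }
  · intro g
    rw [desc_apply, proj_ρ h a, x.2 g, hw, proj_w, smul_zero, sub_zero]
  · intro g
    have h2 := y.2.2.2 g
    have h3 := desc_of_fix h a hw g (y.2.2 : perp B v w)
    rw [h2] at h3
    rw [map_add, map_add, map_smul, map_smul, a.fixv, hw, ← h3]
  · intro x
    apply Subtype.ext
    exact (eq_add h (x : V)).symm
  · rintro ⟨b, c, x, hx⟩
    obtain ⟨h1, h2⟩ := mem_perp.1 x.2
    simp [h.vw, h.vv, h.ww, h1, h2, proj_v, proj_w, proj_coe]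

end comm

end Cfsg.Agent.H152.AbDesc
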