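import Cfsg.Agent.H152.AbBase

/-!
# Abelian groups of isometries: the induction (helper152, for S2501)

`V` with an `ε`-symmetric nondegenerate bilinear form (and a function `Q`), `A` an abelian group of isometries.

* `exists_adj` : the adjoint involution of the algebra `F[A]`;
* `main_rec` : reduction to the case where `F[A]` has no symmetric idempotents;
* `base_bound` : that case.
-/

set_option autoImplicit false
set_option linter.unusedSectionVars false
set_option linter.style.haveILetI false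
set_option linter.deprecated false

namespace Cfsg.Agent.H152.AbForm

open Module Cfsg.Agent.H498.Ab.Schur Cfsg.Agent.H498.Ab.Inv Cfsg.Agent.H152.AbDesc Cfsg.Agent.H152.AbBase

universe u v w

section adj

variable {F : Type u} [Field F] {V : Type v} [AddCommGroup V] [Module F V] {A : Type w} [CommGroup A]

/-- the data -/
structure Isom (ε : F) (B : LinearMap.BilinForm F V) (ρ : A →* Module.End F V) : Prop where
  eps : ε * ε = 1
  sym : ∀ x y, B x y = ε * B y x
  nd : ∀ x, (∀ y, B x y = 0) → x = 0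
  pres : ∀ g x y, B (ρ g x) (ρ g y) = B x y

/-- the algebra spanned by `A` -/
abbrev alg (ρ : A →* Module.End F V) : Subalgebra F (Module.End F V) := Algebra.adjoin F (Set.range ρ)

theorem comm_range (ρ : A →* Module.End F V) : ∀ a ∈ Set.range ρ, ∀ b ∈ Set.range ρ, a * b = b * a := by
  rintro _ ⟨a, rfl⟩ _ ⟨b, rfl⟩
  rw [← map_mul, ← map_mul, mul_comm]

/-- `F[A]` is commutative -/
abbrev commRing (ρ : A →* Module.End F V) : CommRing (alg ρ) := Algebra.adjoinCommRingOfComm F (comm_range ρ)

theorem mem_alg (ρ : A →* Module.End F V) (g : A) : ρ g ∈ alg ρ := Algebra.subset_adjoin ⟨g, rfl⟩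

theorem alg_comm {ρ : A →* Module.End F V} {c : Module.End F V} (hc : c ∈ alg ρ) (g : A) (x : V) :
    ρ g (c x) = c (ρ g x) := by
  have h : ρ g * c = c * ρ g := by
    induction hc using Algebra.adjoin_induction with
    | mem y hy => exact comm_range ρ _ ⟨g, rfl⟩ _ hy
    | algebraMap r => exact (Algebra.commutes r (ρ g)).symm
    | add a b _ _ ha hb => rw [mul_add, add_mul, ha, hb]
    | mul a b _ _ ha hb => rw [← mul_assoc, ha, mul_assoc, hb, mul_assoc]
  exact LinearMap.congr_fun h x

/-- **The adjoint involution.** -/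
theorem exists_adj {ε : F} {B : LinearMap.BilinForm F V} {ρ : A →* Module.End F V} (h : Isom ε B ρ) :
    letI := commRing ρ
    ∃ s : alg ρ ≃+* alg ρ, (∀ c, s (s c) = c) ∧ (∀ x, s (algebraMap F (alg ρ) x) = algebraMap F (alg ρ) x) ∧
      (∀ (c : alg ρ) (x y : V), B (c.1 x) y = B x ((s c).1 y)) ∧
      ∀ g, (s ⟨ρ g, mem_alg ρ g⟩).1 = ρ g⁻¹ := by
  letI := commRing ρ
  have hex : ∀ c : alg ρ, ∃ c' : alg ρ, ∀ x y : V, B (c.1 x) y = B x (c'.1 y) := by
    rintro ⟨c, hc⟩
    induction hc using Algebra.adjoin_induction with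
    | mem y hy =>
      obtain ⟨g, rfl⟩ := hy
      refine ⟨⟨ρ g⁻¹, mem_alg ρ g⁻¹⟩, fun x y => ?_⟩
      have h1 := h.pres g⁻¹ (ρ g x) y
      rw [← Module.End.mul_apply, ← map_mul, inv_mul_cancel, map_one] at h1
      exact h1.symm
    | algebraMap r =>
      refine ⟨algebraMap F _ r, fun x y => ?_⟩
      show B ((algebraMap F (Module.End F V) r) x) y = B x ((algebraMap F (Module.End F V) r) y)
      rw [Module.algebraMap_end_apply, Module.algebraMap_end_apply]
      simp
    | add a b ha hb iha ihb =>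
      obtain ⟨a', ha'⟩ := iha
      obtain ⟨b', hb'⟩ := ihb
      refine ⟨a' + b', fun x y => ?_⟩
      show B (a x + b x) y = B x (a'.1 y + b'.1 y)
      rw [map_add, map_add, LinearMap.add_apply]
      exact congrArg₂ _ (ha' x y) (hb' x y)
    | mul a b ha hb iha ihb =>
      obtain ⟨a', ha'⟩ := iha
      obtain ⟨b', hb'⟩ := ihb
      refine ⟨b' * a', fun x y => ?_⟩
      show B (a (b x)) y = B x (b'.1 (a'.1 y))
      exact (ha' (b x) y).trans (hb' x (a'.1 y))
  choose f hf using hex
  have huniq : ∀ c c' : alg ρ, (∀ x y : V, B x (c.1 y) = B x (c'.1 y)) → c = c' := by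
    intro c c' hcc
    apply Subtype.ext
    apply LinearMap.ext
    intro y
    rw [← sub_eq_zero]
    apply h.nd
    intro x
    rw [h.sym, map_sub, hcc x y, sub_self, mul_zero]
  have hinv : ∀ c, f (f c) = c := by
    intro c
    refine huniq _ _ fun x y => ?_
    rw [← hf (f c), h.sym, ← hf c, h.sym (c.1 y) x, ← mul_assoc, h.eps, one_mul]
  refine ⟨{ toFun := f, invFun := f, left_inv := hinv, right_inv := hinv, map_mul' := fun a b => ?_,
            map_add' := fun a b => ?_ }, hinv, fun x => ?_, hf, fun g => ?_⟩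
  · rw [mul_comm (f a)]
    refine huniq _ _ fun x y => ?_
    rw [← hf]
    show B (a.1 (b.1 x)) y = B x ((f b).1 ((f a).1 y))
    rw [← hf b, ← hf a]
  · refine huniq _ _ fun x y => ?_
    rw [← hf]
    show B (a.1 x + b.1 x) y = B x ((f a).1 y + (f b).1 y)
    rw [map_add, map_add, LinearMap.add_apply, hf a, hf b]
  · refine huniq _ _ fun x' y => ?_
    show B x' ((f (algebraMap F _ x)).1 y) = _
    rw [← hf]
    show B ((algebraMap F (Module.End F V) x) x') y = B x' ((algebraMap F (Module.End F V) x) y)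
    rw [Module.algebraMap_end_apply, Module.algebraMap_end_apply]
    simp
  · have h1 : f ⟨ρ g, mem_alg ρ g⟩ = ⟨ρ g⁻¹, mem_alg ρ g⁻¹⟩ := by
      refine huniq _ _ fun x y => ?_
      rw [← hf]
      have h1 := h.pres g⁻¹ (ρ g x) y
      rw [← Module.End.mul_apply, ← map_mul, inv_mul_cancel, map_one] at h1
      exact h1.symm
    exact congrArg Subtype.val h1

/-- restriction to an invariant subspace -/
def res (ρ : A →* Module.End F V) (W : Submodule F V) (hW : ∀ g, ∀ x ∈ W, ρ g x ∈ W) : A →* Module.End F W where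
  toFun g := (ρ g).restrict (hW g)
  map_one' := by
    ext x
    show (ρ 1) x.1 = x.1
    rw [map_one]; rfl
  map_mul' g h := by
    ext x
    show (ρ (g * h)) x.1 = ρ g (ρ h x.1)
    rw [map_mul]; rfl

@[simp] theorem coe_res (ρ : A →* Module.End F V) (W : Submodule F V) (hW : ∀ g, ∀ x ∈ W, ρ g x ∈ W) (g : A) (x : W) :
    ((res ρ W hW g x : W) : V) = ρ g x := rfl

theorem Isom.restr {ε : F} {B : LinearMap.BilinForm F V} {ρ : A →* Module.End F V} (h : Isom ε B ρ)
    (W : Submodule F V) (hW : ∀ g, ∀ x ∈ W, ρ g x ∈ W) (hnd : ∀ x ∈ W, (∀ y ∈ W, B x y = 0) → x = 0) :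
    Isom ε (B.restrict W) (red (res ρ W hW)) where
  eps := h.eps
  sym x y := h.sym x y
  nd x hx := Subtype.ext (hnd x x.2 fun y hy => hx ⟨y, hy⟩)
  pres g x y := by
    obtain ⟨g, rfl⟩ := QuotientGroup.mk_surjective g
    exact h.pres g x y

end adj

/-- **The induction.** -/
theorem main_rec {F : Type u} [Field F] [Finite F] {ε : F}
    (T : ∀ (V : Type v) [AddCommGroup V] [Module F V], LinearMap.BilinForm F V → (V → F) → Prop)
    (hT : ∀ (V : Type v) [AddCommGroup V] [Module F V] (B : LinearMap.BilinForm F V) (Q : V → F) (W : Submodule F V),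
      T V B Q → T W (B.restrict W) (fun x => Q x))
    (E : ℕ → Prop)
    (hE : ∀ (V : Type v) [AddCommGroup V] [Module F V] [Finite V] (B : LinearMap.BilinForm F V) (Q : V → F),
      T V B Q → (∀ x, (∀ y, B x y = 0) → x = 0) → E (finrank F V))
    (Φ : ℕ → ℕ) (hΦ : ∀ a b, E a → E b → 1 ≤ a → 1 ≤ b → Φ a * Φ b ≤ Φ (a + b))
    (base : ∀ (V : Type v) [AddCommGroup V] [Module F V] [Finite V] (B : LinearMap.BilinForm F V) (Q : V → F),
      T V B Q → 1 ≤ finrank F V → ∀ (A : Type w) [CommGroup A] [Finite A] (ρ : A →* Module.End F V),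
      Function.Injective ρ → Isom ε B ρ → (∀ g x, Q (ρ g x) = Q x) →
      (∀ e : Module.End F V, e ∈ alg ρ → e * e = e → (∀ x y, B (e x) y = B x (e y)) → e = 0 ∨ e = 1) →
      Nat.card A ≤ Φ (finrank F V)) :
    ∀ (n : ℕ) (V : Type v) [AddCommGroup V] [Module F V] [Finite V] (B : LinearMap.BilinForm F V) (Q : V → F),
      T V B Q → finrank F V = n → 1 ≤ n → ∀ (A : Type w) [CommGroup A] [Finite A] (ρ : A →* Module.End F V),
      Function.Injective ρ → Isom ε B ρ → (∀ g x, Q (ρ g x) = Q x) → Nat.card A ≤ Φ n := by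
  intro n
  induction n using Nat.strong_induction_on with
  | h n ih =>
    intro V _ _ _ B Q hTV hn hn1 A _ _ ρ hρ hI hQ
    by_cases hid : ∀ e : Module.End F V, e ∈ alg ρ → e * e = e → (∀ x y, B (e x) y = B x (e y)) → e = 0 ∨ e = 1
    · have := base V B Q hTV (by omega) A ρ hρ hI hQ hid
      rwa [hn] at this
    · push Not at hid
      obtain ⟨e, he, hee, hse, he0, he1⟩ := hid
      have hee' : ∀ x, e (e x) = e x := fun x => LinearMap.congr_fun hee x
      set W₁ := LinearMap.range e with hW₁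
      set W₂ := LinearMap.ker e with hW₂
      have hdim : finrank F W₁ + finrank F W₂ = n := by
        rw [← hn]
        exact LinearMap.finrank_range_add_finrank_ker e
      have hi₁ : ∀ g, ∀ x ∈ W₁, ρ g x ∈ W₁ := by
        rintro g _ ⟨x, rfl⟩
        exact ⟨ρ g x, (alg_comm he g x).symm⟩
      have hi₂ : ∀ g, ∀ x ∈ W₂, ρ g x ∈ W₂ := by
        intro g x hx
        rw [hW₂, LinearMap.mem_ker] at hx ⊢
        rw [← alg_comm he g x, hx, map_zero]
      have hnd₁ : ∀ x ∈ W₁, (∀ y ∈ W₁, B x y = 0) → x = 0 := by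
        rintro _ ⟨x, rfl⟩ hx
        apply hI.nd
        intro z
        rw [← hee' x, hse]
        exact hx _ ⟨z, rfl⟩
      have hnd₂ : ∀ x ∈ W₂, (∀ y ∈ W₂, B x y = 0) → x = 0 := by
        intro x hx0 hx
        have hx0' : e x = 0 := hx0
        apply hI.nd
        intro z
        have h1 : z = e z + (z - e z) := by abel
        rw [h1, map_add, ← hse, hx0', map_zero, LinearMap.zero_apply, zero_add]
        apply hx
        rw [hW₂, LinearMap.mem_ker, map_sub, hee', sub_self]
      have hpos₁ : 1 ≤ finrank F W₁ := by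
        rw [Nat.one_le_iff_ne_zero]
        intro h0
        apply he0
        have h1 : W₁ = ⊥ := Submodule.finrank_eq_zero.1 h0
        exact LinearMap.range_eq_bot.1 h1
      have hpos₂ : 1 ≤ finrank F W₂ := by
        rw [Nat.one_le_iff_ne_zero]
        intro h0
        apply he1
        have h1 : W₂ = ⊥ := Submodule.finrank_eq_zero.1 h0
        have h2 : Function.Injective e := LinearMap.ker_eq_bot.1 h1
        apply LinearMap.ext
        intro x
        exact h2 (hee' x)
      have key : ∀ (W : Submodule F V) (hi : ∀ g, ∀ x ∈ W, ρ g x ∈ W) (hnd : ∀ x ∈ W, (∀ y ∈ W, B x y = 0) → x = 0),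
          1 ≤ finrank F W → finrank F W < n → Nat.card (A ⧸ (res ρ W hi).ker) ≤ Φ (finrank F W) := by
        intro W hi hnd h1 h2
        exact ih _ h2 W (B.restrict W) (fun x => Q x) (hT V B Q W hTV) rfl h1 _ (red (res ρ W hi))
          (red_injective _) (hI.restr W hi hnd)
          (red_ind (res ρ W hi) (P := fun f => ∀ x : W, Q (f x : W) = Q x) fun g x => hQ g x)
      have k₁ := key W₁ hi₁ hnd₁ hpos₁ (by omega)
      have k₂ := key W₂ hi₂ hnd₂ hpos₂ (by omega)
      have hinj : Nat.card A ≤ Nat.card (A ⧸ (res ρ W₁ hi₁).ker) * Nat.card (A ⧸ (res ρ W₂ hi₂).ker) := by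
        rw [← Nat.card_prod]
        refine Nat.card_le_card_of_injective (fun a : A => ((QuotientGroup.mk a : A ⧸ (res ρ W₁ hi₁).ker),
          (QuotientGroup.mk a : A ⧸ (res ρ W₂ hi₂).ker))) ?_
        intro a b hab
        obtain ⟨h1, h2⟩ := Prod.ext_iff.1 hab
        have h1' : a⁻¹ * b ∈ (res ρ W₁ hi₁).ker := QuotientGroup.eq.1 h1
        have h2' : a⁻¹ * b ∈ (res ρ W₂ hi₂).ker := QuotientGroup.eq.1 h2
        rw [MonoidHom.mem_ker] at h1' h2'
        have h3 : ρ (a⁻¹ * b) = ρ 1 := by
          rw [map_one]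
          apply LinearMap.ext
          intro x
          have e1 : x = e x + (x - e x) := by abel
          have e2 : ρ (a⁻¹ * b) (e x) = e x := congrArg Subtype.val (LinearMap.congr_fun h1' ⟨e x, x, rfl⟩)
          have e3 : ρ (a⁻¹ * b) (x - e x) = x - e x := congrArg Subtype.val (LinearMap.congr_fun h2' ⟨x - e x, by
            rw [hW₂, LinearMap.mem_ker, map_sub, hee', sub_self]⟩)
          show ρ (a⁻¹ * b) x = x
          conv_lhs => rw [e1, map_add, e2, e3]
          abel
        have h4 := hρ h3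
        exact (inv_mul_eq_one.1 h4)
      have E₁ : E (finrank F W₁) := hE W₁ (B.restrict W₁) (fun x => Q x) (hT V B Q W₁ hTV)
        fun x hx => Subtype.ext (hnd₁ x x.2 fun y hy => hx ⟨y, hy⟩)
      have E₂ : E (finrank F W₂) := hE W₂ (B.restrict W₂) (fun x => Q x) (hT V B Q W₂ hTV)
        fun x hx => Subtype.ext (hnd₂ x x.2 fun y hy => hx ⟨y, hy⟩)
      calc Nat.card A ≤ _ := hinj
        _ ≤ Φ (finrank F W₁) * Φ (finrank F W₂) := Nat.mul_le_mul k₁ k₂
        _ ≤ Φ (finrank F W₁ + finrank F W₂) := hΦ _ _ E₁ E₂ hpos₁ hpos₂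
        _ = Φ n := by rw [hdim]

/-! ### the base -/

section base

variable {F : Type u} [Field F] [Finite F] {V : Type v} [AddCommGroup V] [Module F V] [Finite V] {A : Type w}
  [CommGroup A] [Finite A] {ρ : A →* Module.End F V}

/-- the numbers of the two cases -/
theorem base_bound {p : ℕ} [Fact p.Prime] [CharP F p] (hρ : Function.Injective ρ) {ε : F}
    {B : LinearMap.BilinForm F V} (hI : Isom ε B ρ) (hn : 1 ≤ finrank F V)
    (hid : ∀ e : Module.End F V, e ∈ alg ρ → e * e = e → (∀ x y, B (e x) y = B x (e y)) → e = 0 ∨ e = 1) {e : ℕ}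
    (h1 : ∀ a, 1 ≤ a → 2 * a ≤ finrank F V → a ^ 2 / 4 + 1 ≤ e)
    (h2 : ∀ d, 1 ≤ d → 2 * d ≤ (finrank F V) ^ 2 / 4 + 1 → d ≤ e)
    (h3 : ∀ A₀ : Subgroup A, IsPGroup p A₀ → Nat.card A₀ ≤ Nat.card F ^ e) :
    Nat.card A ≤ 2 * Nat.card F ^ e ∧ (p = 2 → 1 ≤ e → Nat.card A ≤ (Nat.card F + 1) * Nat.card F ^ (e - 1)) := by
  letI := commRing ρ
  obtain ⟨s, hs, hF, hadj, hsg⟩ := exists_adj hI
  have hQ : 1 < Nat.card F := Finite.one_lt_card
  have hfa : FaithfulSMul (alg ρ) V := ⟨fun {x y} h => Subtype.ext (LinearMap.ext h)⟩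
  have hnt : Nontrivial V := nontrivial_of_finrank_pos (R := F) (by omega)
  have hfinE : Finite (Module.End F V) := Finite.of_injective (fun f : Module.End F V => (f : V → V)) DFunLike.coe_injective
  have hfinC : Finite (alg ρ) := inferInstance
  have hid' : ∀ e : alg ρ, IsIdempotentElem e → s e = e → e = 0 ∨ e = 1 := by
    intro e he hse
    rcases hid e.1 e.2 (congrArg Subtype.val he) (fun x y => by
      have := hadj e x y
      rwa [hse] at this) with h | h
    · left; exact Subtype.ext h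
    · right; exact Subtype.ext h
  have hD : Nat.card (alg ρ) = Nat.card F ^ finrank F (alg ρ) := Module.natCard_eq_pow_finrank
  have hV : Nat.card V = Nat.card F ^ finrank F V := Module.natCard_eq_pow_finrank
  -- `A` embeds in the unitary elements
  have hU : ∀ g, (⟨ρ g, mem_alg ρ g⟩ : alg ρ) ∈ U s := by
    intro g
    show (⟨ρ g, mem_alg ρ g⟩ : alg ρ) * s ⟨ρ g, mem_alg ρ g⟩ = 1
    apply Subtype.ext
    show ρ g * (s ⟨ρ g, mem_alg ρ g⟩).1 = 1
    rw [hsg, ← map_mul, mul_inv_cancel, map_one]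
  have hAU : Nat.card A ≤ Nat.card (U s) := by
    refine Nat.card_le_card_of_injective (fun g : A => (⟨⟨ρ g, mem_alg ρ g⟩, hU g⟩ : U s)) ?_
    intro g g' h
    exact hρ (congrArg (fun x => (x.1 : alg ρ).1) h)
  have hmono : Nat.card F ^ e ≤ (Nat.card F + 1) * Nat.card F ^ (e - 1) ∨ e = 0 := by
    rcases Nat.eq_zero_or_pos e with h | h
    · right; exact h
    · left
      obtain ⟨e, rfl⟩ := Nat.exists_eq_add_of_le (show 1 ≤ e from h)
      rw [Nat.add_sub_cancel_left, pow_add, pow_one]
      exact Nat.mul_le_mul_right _ (by omega)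
  rcases tri (F := F) hs hF V hid' hD hV with ⟨a, d, ha, han, hd, hDd, h, h'⟩ | ⟨d, hd, hDd, h⟩ | ⟨hl, h⟩
  · have h4 : Nat.card F ^ (a ^ 2 / 4 + 1) ≤ Nat.card F ^ e := Nat.pow_le_pow_right hQ.le (h1 a ha han)
    constructor
    · omega
    · intro _ he
      rcases hmono with h5 | h5
      · omega
      · omega
  · have hS := card_le_schur (F := F) (finrank F V) (alg ρ) V hV
    rw [hD] at hS
    have h4 : 2 * d ≤ (finrank F V) ^ 2 / 4 + 1 := by
      rw [← hDd]
      exact (Nat.pow_le_pow_iff_right hQ).1 hS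
    have h5 := h2 d hd h4
    have h6 : (Nat.card F + 1) * Nat.card F ^ (d - 1) ≤ (Nat.card F + 1) * Nat.card F ^ (e - 1) :=
      Nat.mul_le_mul_left _ (Nat.pow_le_pow_right hQ.le (by omega))
    constructor
    · obtain ⟨e, rfl⟩ := Nat.exists_eq_add_of_le (show 1 ≤ e by omega)
      rw [Nat.add_sub_cancel_left] at h6
      have h7 : (Nat.card F + 1) * Nat.card F ^ e ≤ 2 * Nat.card F ^ (1 + e) := by
        rw [pow_add, pow_one]
        nlinarith [Nat.zero_le (Nat.card F ^ e)]
      omega
    · intro _ _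
      omega
  · -- the local case with trivial action on the residue field
    have hJ : ∀ c : alg ρ, ¬ IsUnit c → c ∈ IsLocalRing.maximalIdeal (alg ρ) := fun c hc =>
      (IsLocalRing.mem_maximalIdeal c).2 hc
    let f : A →* (alg ρ) :=
      { toFun := fun g => ⟨ρ g, mem_alg ρ g⟩
        map_one' := Subtype.ext (map_one ρ)
        map_mul' := fun a b => Subtype.ext (map_mul ρ a b) }
    let k := (Ideal.Quotient.mk (IsLocalRing.maximalIdeal (alg ρ))).toMonoidHom.comp f
    have hk : ∀ g, k g = 1 ↔ ¬ IsUnit (f g - 1) := by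
      intro g
      show Ideal.Quotient.mk _ (f g) = 1 ↔ _
      rw [← map_one (Ideal.Quotient.mk (IsLocalRing.maximalIdeal (alg ρ))), Ideal.Quotient.eq,
        IsLocalRing.mem_maximalIdeal, mem_nonunits_iff]
    have hk' : ∀ g, k g = -1 ↔ ¬ IsUnit (f g + 1) := by
      intro g
      show Ideal.Quotient.mk _ (f g) = -1 ↔ _
      rw [← map_one (Ideal.Quotient.mk (IsLocalRing.maximalIdeal (alg ρ))), ← map_neg, Ideal.Quotient.eq,
        IsLocalRing.mem_maximalIdeal, mem_nonunits_iff, sub_neg_eq_add]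
    have hpm : ∀ g, k g = 1 ∨ k g = -1 := by
      intro g
      rw [hk, hk']
      exact pm_one h (hU g)
    -- the kernel is a `p`-group
    have hchar : CharP (alg ρ) p := charP_of_injective_algebraMap (algebraMap F (alg ρ)).injective p
    have hP : IsPGroup p k.ker := by
      rintro ⟨g, hg⟩
      have h4 : ¬ IsUnit (f g - 1) := (hk g).1 hg
      obtain ⟨N, hN⟩ := nonunit_nilp h4
      refine ⟨N, Subtype.ext ?_⟩
      show g ^ p ^ N = 1
      have h5 : (f g - 1) ^ p ^ N = 0 := by
        have h6 : N ≤ p ^ N := (Nat.lt_pow_self (Fact.out : p.Prime).one_lt).le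
        exact pow_eq_zero_of_le h6 hN
      rw [sub_pow_char_pow, one_pow, sub_eq_zero, ← map_pow] at h5
      apply hρ
      rw [map_one]
      exact congrArg Subtype.val h5
    have h4 := h3 k.ker hP
    have h5 : k.ker.index ≤ 2 := by
      have h6 : k.ker = (k.toHomUnits).ker := by
        ext g
        rw [MonoidHom.mem_ker, MonoidHom.mem_ker, ← Units.val_eq_one]
        rfl
      rw [h6, Subgroup.index_ker]
      have h7 : ((k.toHomUnits).range : Set (alg ρ ⧸ IsLocalRing.maximalIdeal (alg ρ))ˣ) ⊆ {1, -1} := by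
        rintro _ ⟨g, rfl⟩
        rcases hpm g with h8 | h8
        · left; exact Units.ext h8
        · right; exact Units.ext h8
      calc Nat.card (k.toHomUnits).range ≤ Set.ncard ({1, -1} : Set (alg ρ ⧸ IsLocalRing.maximalIdeal (alg ρ))ˣ) := by
            rw [← Nat.card_coe_set_eq]
            exact Nat.card_mono (Set.toFinite _) h7
        _ ≤ 2 := (Set.ncard_insert_le _ _).trans (by rw [Set.ncard_singleton])
    have h6 : Nat.card A = Nat.card k.ker * k.ker.index := (Subgroup.card_mul_index _).symm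
    constructor
    · rw [h6, mul_comm]
      exact Nat.mul_le_mul h5 h4
    · rintro rfl he
      have h7 : k.ker = ⊤ := by
        rw [eq_top_iff]
        intro g _
        rw [MonoidHom.mem_ker]
        have h8 : (-1 : alg ρ ⧸ IsLocalRing.maximalIdeal (alg ρ)) = 1 := by
          have h9 : (1 + 1 : alg ρ) = 0 := by
            have := CharP.cast_eq_zero (alg ρ) 2
            rw [one_add_one_eq_two]
            exact_mod_cast this
          have h10 : (1 + 1 : alg ρ ⧸ IsLocalRing.maximalIdeal (alg ρ)) = 0 := by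
            have := congrArg (Ideal.Quotient.mk (IsLocalRing.maximalIdeal (alg ρ))) h9
            rwa [map_add, map_one, map_zero] at this
          linear_combination -h10
        rcases hpm g with h9 | h9
        · exact h9
        · rw [h9, h8]
      rw [h7, Subgroup.index_top, mul_one] at h6
      rw [h7] at h4
      rw [h6]
      rcases hmono with h8 | h8
      · exact h4.trans h8
      · omega

end base

end Cfsg.Agent.H152.AbForm
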