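import Cfsg.Agent.S0245
import Cfsg.Agent.S0246
import Cfsg.Agent.S0292
import Cfsg.Agent.S0293
import Cfsg.Agent.S0294

/-!
# S2501: numerics for the symplectic and orthogonal groups (helper152)

`P q m = ∏_{i<m} (q^(2(i+1)) - 1)`; `3 P ≥ 2 q^(m(m+1))` and `8 P ≥ 7 q^(m(m+1))` for `q ≥ 3`.
-/

set_option autoImplicit false

namespace Cfsg.Agent.H152.AbNum

/-- the product in the orders of the symplectic and orthogonal groups -/
def P (q m : ℕ) : ℕ := ∏ i ∈ Finset.range m, (q ^ (2 * (i + 1)) - 1)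

theorem P_succ (q m : ℕ) : P q (m + 1) = P q m * (q ^ (2 * (m + 1)) - 1) := Finset.prod_range_succ _ _

theorem P_int {q : ℕ} (hq : 2 ≤ q) (m : ℕ) :
    ((q : ℤ) ^ 2 - 2) * (q : ℤ) ^ (m * (m + 1)) + (q : ℤ) ^ (m * (m - 1)) ≤ ((q : ℤ) ^ 2 - 1) * (P q m : ℤ) := by
  induction m with
  | zero =>
    simp only [P, zero_mul, pow_zero, mul_one, Finset.range_zero, Finset.prod_empty, Nat.cast_one]
    linarith
  | succ m ih =>
    have h1 : 1 ≤ q ^ (2 * (m + 1)) := Nat.one_le_pow _ _ (by omega)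
    have h2 : ((q ^ (2 * (m + 1)) - 1 : ℕ) : ℤ) = (q : ℤ) ^ (2 * (m + 1)) - 1 := by
      rw [Nat.cast_sub h1]; push_cast; ring
    have h3 : (0 : ℤ) ≤ (q : ℤ) ^ (2 * (m + 1)) - 1 := by rw [← h2]; exact Int.natCast_nonneg _
    rw [P_succ, Nat.cast_mul, h2, ← mul_assoc]
    refine le_trans ?_ (mul_le_mul_of_nonneg_right ih h3)
    have e1 : (m + 1) * (m + 1 + 1) = m * (m + 1) + 2 * (m + 1) := by ring
    have e2 : (m + 1) * (m + 1 - 1) = m * (m + 1) := by rw [Nat.add_sub_cancel]; ring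
    have e3 : m * (m - 1) + 2 * (m + 1) = m * (m + 1) + 2 := by
      cases m with
      | zero => rfl
      | succ k => rw [Nat.add_sub_cancel]; ring
    rw [e1, e2, pow_add]
    have e4 : (q : ℤ) ^ (m * (m - 1)) * (q : ℤ) ^ (2 * (m + 1)) = (q : ℤ) ^ (m * (m + 1)) * (q : ℤ) ^ 2 := by
      rw [← pow_add, e3, pow_add]
    have e5 : (q : ℤ) ^ (m * (m - 1)) ≤ (q : ℤ) ^ (m * (m + 1)) := by
      apply pow_le_pow_right₀ (by exact_mod_cast (by omega : 1 ≤ q))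
      exact Nat.mul_le_mul_left _ (by omega)
    nlinarith [e4, e5]

theorem P_lower {q : ℕ} (hq : 2 ≤ q) (m : ℕ) : 2 * q ^ (m * (m + 1)) ≤ 3 * P q m := by
  have h := P_int hq m
  have h0 : (0 : ℤ) ≤ (q : ℤ) ^ (m * (m - 1)) := by positivity
  have hX : (0 : ℤ) ≤ (q : ℤ) ^ (m * (m + 1)) := by positivity
  have hq' : (2 : ℤ) ≤ q := by exact_mod_cast hq
  have hq2 : (4 : ℤ) ≤ (q : ℤ) ^ 2 := by nlinarith
  have h1 : (2 : ℤ) * (q : ℤ) ^ (m * (m + 1)) ≤ 3 * P q m := by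
    by_contra hc
    push Not at hc
    have h2 : ((q : ℤ) ^ 2 - 1) * (3 * P q m) < ((q : ℤ) ^ 2 - 1) * (2 * (q : ℤ) ^ (m * (m + 1))) :=
      mul_lt_mul_of_pos_left hc (by linarith)
    nlinarith
  exact_mod_cast h1

theorem P_lower' {q : ℕ} (hq : 3 ≤ q) (m : ℕ) : 7 * q ^ (m * (m + 1)) ≤ 8 * P q m := by
  have h := P_int (by omega : 2 ≤ q) m
  have h0 : (0 : ℤ) ≤ (q : ℤ) ^ (m * (m - 1)) := by positivity
  have hX : (0 : ℤ) ≤ (q : ℤ) ^ (m * (m + 1)) := by positivity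
  have hq' : (3 : ℤ) ≤ q := by exact_mod_cast hq
  have hq2 : (9 : ℤ) ≤ (q : ℤ) ^ 2 := by nlinarith
  have h1 : (7 : ℤ) * (q : ℤ) ^ (m * (m + 1)) ≤ 8 * P q m := by
    by_contra hc
    push Not at hc
    have h2 : ((q : ℤ) ^ 2 - 1) * (8 * P q m) < ((q : ℤ) ^ 2 - 1) * (7 * (q : ℤ) ^ (m * (m + 1))) :=
      mul_lt_mul_of_pos_left hc (by linarith)
    nlinarith
  exact_mod_cast h1

theorem two_mul_half (m : ℕ) : 2 * (m * (m + 1) / 2) = m * (m + 1) :=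
  Nat.mul_div_cancel' (Nat.even_mul_succ_self m).two_dvd

theorem three_le_of_odd {F : Type*} [Field F] [Fintype F] {q : ℕ} (hF : Fintype.card F = q) (hodd : Odd q) : 3 ≤ q := by
  have h1 : 1 < Fintype.card F := Fintype.one_lt_card
  rw [hF] at h1
  obtain ⟨k, rfl⟩ := hodd
  omega

/-! ### symplectic groups -/

section psp

variable {F : Type*} [Field F] [Fintype F] {q m : ℕ}

theorem card_psp (hF : Fintype.card F = q) (hm : 1 ≤ m) :
    Nat.gcd 2 (q - 1) * Nat.card (PSp m F) = q ^ (m ^ 2) * ∏ i ∈ Finset.range m, (q ^ (2 * (i + 1)) - 1) := by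
  have h1 := S0245.result (F := F) hF m
  have h2 := S0246.result (F := F) hF m hm
  have h3 := Subgroup.card_eq_card_quotient_mul_card_subgroup
    (Subgroup.center (Matrix.symplecticGroup (Fin m) F))
  rw [h1, h2] at h3
  rw [h3, mul_comm]

theorem psp_odd (hF : Fintype.card F = q) (hodd : Odd q) (hm : 2 ≤ m) :
    (q ^ (m * (m + 1) / 2)) ^ 3 < Nat.card (PSp m F) := by
  have hq := three_le_of_odd hF hodd
  have hc := card_psp hF (by omega : 1 ≤ m)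
  have hg : Nat.gcd 2 (q - 1) ≤ 2 := Nat.le_of_dvd (by norm_num) (Nat.gcd_dvd_left _ _)
  have h1 : q ^ (m ^ 2) * P q m ≤ 2 * Nat.card (PSp m F) := by
    change q ^ (m ^ 2) * ∏ i ∈ Finset.range m, (q ^ (2 * (i + 1)) - 1) ≤ _
    rw [← hc]
    exact Nat.mul_le_mul_right _ hg
  have h2 := P_lower' hq m
  have h3 : 7 * q ^ (2 * m ^ 2 + m) ≤ 16 * Nat.card (PSp m F) := by
    have e : q ^ (2 * m ^ 2 + m) = q ^ (m ^ 2) * q ^ (m * (m + 1)) := by rw [← pow_add]; congr 1; ring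
    rw [e]
    calc 7 * (q ^ m ^ 2 * q ^ (m * (m + 1))) = q ^ m ^ 2 * (7 * q ^ (m * (m + 1))) := by ring
      _ ≤ q ^ m ^ 2 * (8 * P q m) := Nat.mul_le_mul_left _ h2
      _ = 8 * (q ^ m ^ 2 * P q m) := by ring
      _ ≤ 8 * (2 * Nat.card (PSp m F)) := Nat.mul_le_mul_left _ h1
      _ = _ := by ring
  have h4 : (q ^ (m * (m + 1) / 2)) ^ 3 * q ≤ q ^ (2 * m ^ 2 + m) := by
    rw [← pow_mul, ← pow_succ]
    apply Nat.pow_le_pow_right (by omega)
    have := two_mul_half m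
    nlinarith
  have h5 : 0 < (q ^ (m * (m + 1) / 2)) ^ 3 := by positivity
  nlinarith

theorem psp_even (hF : Fintype.card F = q) (heven : Even q) (hm : 2 ≤ m) (h22 : m = 2 → 3 ≤ q) :
    ((q + 1) * q ^ (m * (m + 1) / 2 - 1)) ^ 3 < Nat.card (PSp m F) := by
  have hq : 2 ≤ q := by
    have h1 : 1 < Fintype.card F := Fintype.one_lt_card
    omega
  have hc := card_psp hF (by omega : 1 ≤ m)
  have hg : Nat.gcd 2 (q - 1) = 1 := by
    have h1 : Odd (q - 1) := Nat.Even.sub_odd (by omega) heven odd_one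
    exact Nat.coprime_two_left.2 h1
  rw [hg, one_mul] at hc
  have h2 := P_lower hq m
  have h3 : 2 * q ^ (2 * m ^ 2 + m) ≤ 3 * Nat.card (PSp m F) := by
    have e : q ^ (2 * m ^ 2 + m) = q ^ (m ^ 2) * q ^ (m * (m + 1)) := by rw [← pow_add]; congr 1; ring
    rw [e, hc]
    calc 2 * (q ^ m ^ 2 * q ^ (m * (m + 1))) = q ^ m ^ 2 * (2 * q ^ (m * (m + 1))) := by ring
      _ ≤ q ^ m ^ 2 * (3 * P q m) := Nat.mul_le_mul_left _ h2
      _ = _ := by rw [P]; ring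
  obtain ⟨a, ha⟩ : ∃ a, m * (m + 1) / 2 = a + 1 := by
    refine ⟨m * (m + 1) / 2 - 1, ?_⟩
    have := two_mul_half m
    have : 2 * 3 ≤ m * (m + 1) := Nat.mul_le_mul hm (by omega)
    omega
  have ha2 : 2 * (a + 1) = m * (m + 1) := by rw [← ha]; exact two_mul_half m
  rw [ha, Nat.add_sub_cancel]
  -- the exponents
  have h4 : (q ^ a) ^ 3 * q ^ (if m = 2 then 4 else 6) ≤ q ^ (2 * m ^ 2 + m) := by
    rw [← pow_mul, ← pow_add]
    apply Nat.pow_le_pow_right (by omega)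
    split_ifs with h
    · subst h; omega
    · have h3 : 3 ≤ m := by omega
      nlinarith
  have h5 : 3 * (q + 1) ^ 3 < 2 * q ^ (if m = 2 then 4 else 6) := by
    split_ifs with h
    · have hq4 : 4 ≤ q := by
        have := h22 h
        obtain ⟨k, hk⟩ := heven
        omega
      obtain ⟨k, rfl⟩ := Nat.exists_eq_add_of_le hq4
      ring_nf
      nlinarith
    · obtain ⟨k, rfl⟩ := Nat.exists_eq_add_of_le hq
      have h7 : 3 * (2 + k + 1) ^ 3 < 2 * 8 * (2 + k) ^ 3 := by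
        ring_nf
        nlinarith
      have h8 : 8 * (2 + k) ^ 3 ≤ (2 + k) ^ 3 * (2 + k) ^ 3 := by
        have : 8 ≤ (2 + k) ^ 3 := by
          calc 8 = 2 ^ 3 := by norm_num
            _ ≤ _ := Nat.pow_le_pow_left (by omega) 3
        exact Nat.mul_le_mul_right _ this
      calc 3 * (2 + k + 1) ^ 3 < 2 * 8 * (2 + k) ^ 3 := h7
        _ = 2 * (8 * (2 + k) ^ 3) := by ring
        _ ≤ 2 * ((2 + k) ^ 3 * (2 + k) ^ 3) := Nat.mul_le_mul_left _ h8
        _ = _ := by ring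
  have h6 : 0 < (q ^ a) ^ 3 := by positivity
  have h7 : 3 * ((q + 1) * q ^ a) ^ 3 < 3 * Nat.card (PSp m F) := by
    calc 3 * ((q + 1) * q ^ a) ^ 3 = (q ^ a) ^ 3 * (3 * (q + 1) ^ 3) := by ring
      _ < (q ^ a) ^ 3 * (2 * q ^ (if m = 2 then 4 else 6)) := Nat.mul_lt_mul_of_pos_left h5 h6
      _ = 2 * ((q ^ a) ^ 3 * q ^ (if m = 2 then 4 else 6)) := by ring
      _ ≤ 2 * q ^ (2 * m ^ 2 + m) := Nat.mul_le_mul_left _ h4
      _ ≤ _ := h3
  omega

end psp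

/-! ### orthogonal groups -/

/-- helper498's exponent -/
def g (n : ℕ) : ℕ := max (n - 1) ((n ^ 2 / 4 + 1) / 2)

theorem g_odd {m : ℕ} (hm : 3 ≤ m) : g (2 * m + 1) = m * (m + 1) / 2 := by
  unfold g
  have h1 : (2 * m + 1) ^ 2 / 4 = m * (m + 1) := by
    have : (2 * m + 1) ^ 2 = 4 * (m * (m + 1)) + 1 := by ring
    omega
  have h2 := two_mul_half m
  have h3 : 4 * m ≤ m * (m + 1) := by nlinarith
  rw [h1, max_eq_right] <;> omega

theorem g_even {m : ℕ} (hm : 4 ≤ m) : g (2 * m) = (m ^ 2 + 1) / 2 := by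
  unfold g
  have h1 : (2 * m) ^ 2 / 4 = m ^ 2 := by
    have : (2 * m) ^ 2 = 4 * m ^ 2 := by ring
    omega
  have h3 : 4 * m ≤ m ^ 2 := by nlinarith
  rw [h1, max_eq_right]
  omega

section pomega

variable {F : Type*} [Field F] [Fintype F] {q m : ℕ}

theorem pomega_odd (hF : Fintype.card F = q) (hodd : Odd q) (hm : 3 ≤ m) :
    (2 * q ^ (m * (m + 1) / 2)) ^ 3 < Nat.card (POmega F (quadFormOdd m F)) := by
  have hq := three_le_of_odd hF hodd
  have hc : 2 * Nat.card (POmega F (quadFormOdd m F)) = q ^ (m ^ 2) * P q m := S0292.result hF hodd m hm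
  have h2 := P_lower' hq m
  have h3 : 7 * q ^ (2 * m ^ 2 + m) ≤ 16 * Nat.card (POmega F (quadFormOdd m F)) := by
    have e : q ^ (2 * m ^ 2 + m) = q ^ (m ^ 2) * q ^ (m * (m + 1)) := by rw [← pow_add]; congr 1; ring
    rw [e]
    calc 7 * (q ^ m ^ 2 * q ^ (m * (m + 1))) = q ^ m ^ 2 * (7 * q ^ (m * (m + 1))) := by ring
      _ ≤ q ^ m ^ 2 * (8 * P q m) := Nat.mul_le_mul_left _ h2
      _ = 8 * (q ^ m ^ 2 * P q m) := by ring
      _ = 8 * (2 * Nat.card (POmega F (quadFormOdd m F))) := by rw [hc]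
      _ = _ := by ring
  have h4 : (q ^ (m * (m + 1) / 2)) ^ 3 * q ^ 3 ≤ q ^ (2 * m ^ 2 + m) := by
    rw [← pow_mul, ← pow_add]
    apply Nat.pow_le_pow_right (by omega)
    have := two_mul_half m
    nlinarith
  have h5 : 0 < (q ^ (m * (m + 1) / 2)) ^ 3 := by positivity
  have h6 : 27 ≤ q ^ 3 := by
    calc 27 = 3 ^ 3 := by norm_num
      _ ≤ _ := Nat.pow_le_pow_left hq 3
  nlinarith

/-- the numbers for the even-dimensional groups, `q` odd: `X = q^m ∓ 1` -/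
theorem num_even_odd {N X d : ℕ} (hq : 3 ≤ q) (hm : 4 ≤ m) (hd : d ≤ 4) (hX : q ^ m ≤ X + 1)
    (hN : d * N = q ^ (m * (m - 1)) * X * P q (m - 1)) : (2 * q ^ ((m ^ 2 + 1) / 2)) ^ 3 < N := by
  have h2 := P_lower' hq (m - 1)
  have e0 : (m - 1) * (m - 1 + 1) = m * (m - 1) := by
    rw [Nat.sub_add_cancel (by omega)]; ring
  rw [e0] at h2
  have h81 : 81 ≤ q ^ m := by
    calc 81 = 3 ^ 4 := by norm_num
      _ ≤ q ^ 4 := Nat.pow_le_pow_left hq 4
      _ ≤ _ := Nat.pow_le_pow_right (by omega) hm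
  have hX2 : 80 * q ^ m ≤ 81 * X := by omega
  have h3 : 560 * q ^ (2 * m ^ 2 - m) ≤ 2592 * N := by
    have e : q ^ (2 * m ^ 2 - m) = q ^ (m * (m - 1)) * q ^ m * q ^ (m * (m - 1)) := by
      rw [← pow_add, ← pow_add]
      congr 1
      obtain ⟨k, rfl⟩ := Nat.exists_eq_add_of_le hm
      have : 4 + k - 1 = 3 + k := by omega
      rw [this]
      ring_nf
      omega
    rw [e]
    calc 560 * (q ^ (m * (m - 1)) * q ^ m * q ^ (m * (m - 1)))
        = q ^ (m * (m - 1)) * (80 * q ^ m) * (7 * q ^ (m * (m - 1))) := by ring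
      _ ≤ q ^ (m * (m - 1)) * (81 * X) * (8 * P q (m - 1)) :=
          Nat.mul_le_mul (Nat.mul_le_mul_left _ hX2) h2
      _ = 648 * (q ^ (m * (m - 1)) * X * P q (m - 1)) := by ring
      _ = 648 * (d * N) := by rw [hN]
      _ ≤ 648 * (4 * N) := Nat.mul_le_mul_left _ (Nat.mul_le_mul_right _ hd)
      _ = _ := by ring
  have h4 : (q ^ ((m ^ 2 + 1) / 2)) ^ 3 * q ^ 4 ≤ q ^ (2 * m ^ 2 - m) := by
    rw [← pow_mul, ← pow_add]
    apply Nat.pow_le_pow_right (by omega)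
    rcases (by omega : m = 4 ∨ 5 ≤ m) with rfl | h5
    · norm_num
    · have h6 : (m ^ 2 + 1) / 2 * 2 ≤ m ^ 2 + 1 := Nat.div_mul_le_self _ _
      have h7 : m ≤ 2 * m ^ 2 := by nlinarith
      have h8 : 3 * (m ^ 2 + 1) + 8 + 2 * m ≤ 4 * m ^ 2 := by nlinarith
      omega
  have h5 : 0 < (q ^ ((m ^ 2 + 1) / 2)) ^ 3 := by positivity
  have h6 : 81 ≤ q ^ 4 := by
    calc 81 = 3 ^ 4 := by norm_num
      _ ≤ _ := Nat.pow_le_pow_left hq 4
  nlinarith

/-- the numbers for the even-dimensional groups, `q` even -/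
theorem num_even_even {N X : ℕ} (hq : 2 ≤ q) (hm : 4 ≤ m) (hX : q ^ m ≤ X + 1)
    (hN : N = q ^ (m * (m - 1)) * X * P q (m - 1)) : ((q + 1) * q ^ ((m ^ 2 + 1) / 2 - 1)) ^ 3 < N := by
  have h2 := P_lower hq (m - 1)
  have e0 : (m - 1) * (m - 1 + 1) = m * (m - 1) := by
    rw [Nat.sub_add_cancel (by omega)]; ring
  rw [e0] at h2
  have h16 : 16 ≤ q ^ m := by
    calc 16 = 2 ^ 4 := by norm_num
      _ ≤ q ^ 4 := Nat.pow_le_pow_left hq 4
      _ ≤ _ := Nat.pow_le_pow_right (by omega) hm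
  have hX2 : 15 * q ^ m ≤ 16 * X := by omega
  have h3 : 30 * q ^ (2 * m ^ 2 - m) ≤ 48 * N := by
    have e : q ^ (2 * m ^ 2 - m) = q ^ (m * (m - 1)) * q ^ m * q ^ (m * (m - 1)) := by
      rw [← pow_add, ← pow_add]
      congr 1
      obtain ⟨k, rfl⟩ := Nat.exists_eq_add_of_le hm
      have : 4 + k - 1 = 3 + k := by omega
      rw [this]
      ring_nf
      omega
    rw [e]
    calc 30 * (q ^ (m * (m - 1)) * q ^ m * q ^ (m * (m - 1)))
        = q ^ (m * (m - 1)) * (15 * q ^ m) * (2 * q ^ (m * (m - 1))) := by ring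
      _ ≤ q ^ (m * (m - 1)) * (16 * X) * (3 * P q (m - 1)) :=
          Nat.mul_le_mul (Nat.mul_le_mul_left _ hX2) h2
      _ = _ := by rw [hN]; ring
  obtain ⟨a, ha⟩ : ∃ a, (m ^ 2 + 1) / 2 = a + 1 := by
    refine ⟨(m ^ 2 + 1) / 2 - 1, ?_⟩
    have : 16 ≤ m ^ 2 := by nlinarith
    omega
  rw [ha, Nat.add_sub_cancel]
  have h4 : (q ^ a) ^ 3 * q ^ 7 ≤ q ^ (2 * m ^ 2 - m) := by
    rw [← pow_mul, ← pow_add]
    apply Nat.pow_le_pow_right (by omega)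
    rcases (by omega : m = 4 ∨ 5 ≤ m) with rfl | h5
    · norm_num at ha ⊢
      omega
    · have h6 : (m ^ 2 + 1) / 2 * 2 ≤ m ^ 2 + 1 := Nat.div_mul_le_self _ _
      have h7 : m ≤ 2 * m ^ 2 := by nlinarith
      have h8 : 3 * (m ^ 2 + 1) + 8 + 2 * m ≤ 4 * m ^ 2 := by nlinarith
      omega
  have h5 : 48 * (q + 1) ^ 3 < 30 * q ^ 7 := by
    obtain ⟨k, rfl⟩ := Nat.exists_eq_add_of_le hq
    have h7 : 48 * (2 + k + 1) ^ 3 < 30 * 16 * (2 + k) ^ 3 := by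
      ring_nf
      nlinarith
    have h8 : 16 * (2 + k) ^ 3 ≤ (2 + k) ^ 4 * (2 + k) ^ 3 := by
      have : 16 ≤ (2 + k) ^ 4 := by
        calc 16 = 2 ^ 4 := by norm_num
          _ ≤ _ := Nat.pow_le_pow_left (by omega) 4
      exact Nat.mul_le_mul_right _ this
    calc 48 * (2 + k + 1) ^ 3 < 30 * 16 * (2 + k) ^ 3 := h7
      _ = 30 * (16 * (2 + k) ^ 3) := by ring
      _ ≤ 30 * ((2 + k) ^ 4 * (2 + k) ^ 3) := Nat.mul_le_mul_left _ h8
      _ = _ := by ring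
  have h6 : 0 < (q ^ a) ^ 3 := by positivity
  have h7 : 48 * ((q + 1) * q ^ a) ^ 3 < 48 * N := by
    calc 48 * ((q + 1) * q ^ a) ^ 3 = (q ^ a) ^ 3 * (48 * (q + 1) ^ 3) := by ring
      _ < (q ^ a) ^ 3 * (30 * q ^ 7) := Nat.mul_lt_mul_of_pos_left h5 h6
      _ = 30 * ((q ^ a) ^ 3 * q ^ 7) := by ring
      _ ≤ 30 * q ^ (2 * m ^ 2 - m) := Nat.mul_le_mul_left _ h4
      _ ≤ _ := h3
  omega

theorem gcd_four_le (x : ℕ) : Nat.gcd 4 x ≤ 4 := Nat.le_of_dvd (by norm_num) (Nat.gcd_dvd_left _ _)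

theorem gcd_four_eq {x : ℕ} (h : Odd x) : Nat.gcd 4 x = 1 := by
  have h1 : Nat.Coprime (2 ^ 2) x := Nat.Coprime.pow_left 2 (Nat.coprime_two_left.2 h)
  exact h1

theorem two_le (hF : Fintype.card F = q) : 2 ≤ q := by
  have h1 : 1 < Fintype.card F := Fintype.one_lt_card
  omega

theorem pomega_plus_odd (hF : Fintype.card F = q) (hodd : Odd q) (hm : 4 ≤ m) :
    (2 * q ^ ((m ^ 2 + 1) / 2)) ^ 3 < Nat.card (POmega F (quadFormPlus m F)) :=
  num_even_odd (three_le_of_odd hF hodd) hm (gcd_four_le _) (by omega) (S0293.result hF m hm)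

theorem pomega_plus_even (hF : Fintype.card F = q) (heven : Even q) (hm : 4 ≤ m) :
    ((q + 1) * q ^ ((m ^ 2 + 1) / 2 - 1)) ^ 3 < Nat.card (POmega F (quadFormPlus m F)) := by
  have hq := two_le hF
  have h1 := S0293.result hF m hm
  rw [gcd_four_eq (Nat.Even.sub_odd (Nat.one_le_pow _ _ (by omega)) (heven.pow_of_ne_zero (by omega)) odd_one),
    one_mul] at h1
  exact num_even_even hq hm (by omega) h1

theorem pomega_minus_odd (hF : Fintype.card F = q) (hodd : Odd q) (hm : 3 ≤ m) (a b : F)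
    (hab : ∀ z₁ z₂ : F, z₁ ^ 2 + a * z₁ * z₂ + b * z₂ ^ 2 = 0 → z₁ = 0 ∧ z₂ = 0) :
    (2 * q ^ (((m + 1) ^ 2 + 1) / 2)) ^ 3 < Nat.card (POmega F (quadFormMinus m F a b)) :=
  num_even_odd (X := q ^ (m + 1) + 1) (three_le_of_odd hF hodd) (by omega) (gcd_four_le _) (by omega)
    (S0294.result hF (m + 1) (by omega) a b hab)

theorem pomega_minus_even (hF : Fintype.card F = q) (heven : Even q) (hm : 3 ≤ m) (a b : F)
    (hab : ∀ z₁ z₂ : F, z₁ ^ 2 + a * z₁ * z₂ + b * z₂ ^ 2 = 0 → z₁ = 0 ∧ z₂ = 0) :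
    ((q + 1) * q ^ (((m + 1) ^ 2 + 1) / 2 - 1)) ^ 3 < Nat.card (POmega F (quadFormMinus m F a b)) := by
  have h1 := S0294.result hF (m + 1) (by omega) a b hab
  rw [gcd_four_eq ((heven.pow_of_ne_zero (by omega)).add_odd odd_one), one_mul] at h1
  exact num_even_even (two_le hF) (by omega) (by omega) h1

end pomega

end Cfsg.Agent.H152.AbNum
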