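import Cfsg.Agent.H152.AbForm
import Cfsg.Agent.H152.AbNum

/-!
# Abelian groups of isometries: the bounds for `Sp` and `O` (helper152, for S2501)

* `symp_odd`, `symp_even` : `2 q ^ (m (m + 1) / 2)`, `(q + 1) q ^ (m (m + 1) / 2 - 1)`;
* `orth_odd`, `orth_even` : `2 q ^ g n`, `(q + 1) q ^ (g n - 1)`.
-/

set_option autoImplicit false
set_option linter.unusedSectionVars false

namespace Cfsg.Agent.H152.AbIso

open Module Cfsg.Agent.H152.AbDesc Cfsg.Agent.H152.AbBase Cfsg.Agent.H152.AbForm Cfsg.Agent.H152.AbUni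
  Cfsg.Agent.H152.AbNum

universe u v w

/-- induction and base together -/
theorem both {F : Type u} [Field F] [Finite F] {p : ℕ} [Fact p.Prime] [CharP F p] {ε : F}
    (T : ∀ (V : Type v) [AddCommGroup V] [Module F V], LinearMap.BilinForm F V → (V → F) → Prop)
    (hT : ∀ (V : Type v) [AddCommGroup V] [Module F V] (B : LinearMap.BilinForm F V) (Q : V → F) (W : Submodule F V),
      T V B Q → T W (B.restrict W) (fun x => Q x))
    (E : ℕ → Prop)
    (hE : ∀ (V : Type v) [AddCommGroup V] [Module F V] [Finite V] (B : LinearMap.BilinForm F V) (Q : V → F),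
      T V B Q → (∀ x, (∀ y, B x y = 0) → x = 0) → E (finrank F V))
    (e : ℕ → ℕ) (hsup : ∀ a b, E a → E b → 1 ≤ a → 1 ≤ b → e a + e b + 1 ≤ e (a + b))
    (h1 : ∀ n, E n → ∀ a, 1 ≤ a → 2 * a ≤ n → a ^ 2 / 4 + 1 ≤ e n)
    (h2 : ∀ n, E n → ∀ d, 1 ≤ d → 2 * d ≤ n ^ 2 / 4 + 1 → d ≤ e n)
    (h3 : ∀ (V : Type v) [AddCommGroup V] [Module F V] [Finite V] (B : LinearMap.BilinForm F V) (Q : V → F),
      T V B Q → ∀ (A : Type w) [CommGroup A] [Finite A] (ρ : A →* Module.End F V), IsPGroup p A →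
      Function.Injective ρ → Isom ε B ρ → (∀ g x, Q (ρ g x) = Q x) → Nat.card A ≤ Nat.card F ^ e (finrank F V))
    (n : ℕ) (V : Type v) [AddCommGroup V] [Module F V] [Finite V] (B : LinearMap.BilinForm F V) (Q : V → F)
    (hTV : T V B Q) (hn : finrank F V = n) (hn1 : 1 ≤ n) (A : Type w) [CommGroup A] [Finite A]
    (ρ : A →* Module.End F V) (hρ : Function.Injective ρ) (hI : Isom ε B ρ) (hQ : ∀ g x, Q (ρ g x) = Q x) :
    Nat.card A ≤ 2 * Nat.card F ^ e n ∧
      (p = 2 → (∀ n, E n → 1 ≤ n → 1 ≤ e n) → Nat.card A ≤ (Nat.card F + 1) * Nat.card F ^ (e n - 1)) := by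
  have hq : 1 < Nat.card F := Finite.one_lt_card
  have hE' : ∀ (V : Type v) [AddCommGroup V] [Module F V] [Finite V] (B : LinearMap.BilinForm F V) (Q : V → F),
      T V B Q → ∀ (A : Type w) [CommGroup A] [Finite A] (ρ : A →* Module.End F V), Isom ε B ρ → E (finrank F V) :=
    fun V _ _ _ B Q h A _ _ ρ hI => hE V B Q h hI.nd
  have hA0 : ∀ (V : Type v) [AddCommGroup V] [Module F V] [Finite V] (B : LinearMap.BilinForm F V) (Q : V → F),
      T V B Q → ∀ (A : Type w) [CommGroup A] [Finite A] (ρ : A →* Module.End F V), Function.Injective ρ →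
      Isom ε B ρ → (∀ g x, Q (ρ g x) = Q x) → ∀ A₀ : Subgroup A, IsPGroup p A₀ →
      Nat.card A₀ ≤ Nat.card F ^ e (finrank F V) := by
    intro V _ _ _ B Q hTV A _ _ ρ hρ hI hQ A₀ hP
    exact h3 V B Q hTV A₀ (ρ.comp A₀.subtype) hP (hρ.comp A₀.subtype_injective)
      ⟨hI.eps, hI.sym, hI.nd, fun g x y => hI.pres g x y⟩ (fun g x => hQ g x)
  constructor
  · refine main_rec T hT E hE (fun n => 2 * Nat.card F ^ e n) ?_ ?_ n V B Q hTV hn hn1 A ρ hρ hI hQ
    · intro a b ha hb ha1 hb1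
      show 2 * Nat.card F ^ e a * (2 * Nat.card F ^ e b) ≤ 2 * Nat.card F ^ e (a + b)
      calc 2 * Nat.card F ^ e a * (2 * Nat.card F ^ e b) = 2 * (Nat.card F ^ (e a + e b) * 2) := by rw [pow_add]; ring
        _ ≤ 2 * (Nat.card F ^ (e a + e b) * Nat.card F) := Nat.mul_le_mul_left _ (Nat.mul_le_mul_left _ hq)
        _ = 2 * Nat.card F ^ (e a + e b + 1) := by rw [pow_succ]
        _ ≤ _ := Nat.mul_le_mul_left _ (Nat.pow_le_pow_right hq.le (hsup a b ha hb ha1 hb1))
    · intro V _ _ _ B Q hTV hn1 A _ _ ρ hρ hI hQ hid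
      have hEn := hE' V B Q hTV A ρ hI
      exact (base_bound (p := p) hρ hI hn1 hid (h1 _ hEn) (h2 _ hEn) (hA0 V B Q hTV A ρ hρ hI hQ)).1
  · intro hp he
    refine main_rec T hT E hE (fun n => (Nat.card F + 1) * Nat.card F ^ (e n - 1)) ?_ ?_ n V B Q hTV hn hn1 A ρ hρ hI hQ
    · intro a b ha hb ha1 hb1
      show (Nat.card F + 1) * Nat.card F ^ (e a - 1) * ((Nat.card F + 1) * Nat.card F ^ (e b - 1)) ≤
        (Nat.card F + 1) * Nat.card F ^ (e (a + b) - 1)
      have k1 := he a ha ha1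
      have k2 := he b hb hb1
      have k3 := hsup a b ha hb ha1 hb1
      calc (Nat.card F + 1) * Nat.card F ^ (e a - 1) * ((Nat.card F + 1) * Nat.card F ^ (e b - 1))
          = (Nat.card F + 1) * (Nat.card F ^ (e a - 1 + (e b - 1)) * (Nat.card F + 1)) := by rw [pow_add]; ring
        _ ≤ (Nat.card F + 1) * (Nat.card F ^ (e a - 1 + (e b - 1)) * Nat.card F ^ 2) := by
          apply Nat.mul_le_mul_left
          apply Nat.mul_le_mul_left
          nlinarith
        _ = (Nat.card F + 1) * Nat.card F ^ (e a - 1 + (e b - 1) + 2) := by rw [← pow_add]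
        _ ≤ _ := Nat.mul_le_mul_left _ (Nat.pow_le_pow_right hq.le (by omega))
    · intro V _ _ _ B Q hTV hn1 A _ _ ρ hρ hI hQ hid
      have hEn := hE' V B Q hTV A ρ hI
      exact (base_bound (p := p) hρ hI hn1 hid (h1 _ hEn) (h2 _ hEn) (hA0 V B Q hTV A ρ hρ hI hQ)).2 hp
        (he _ hEn hn1)

/-! ### alternating forms -/

theorem even_finrank {F : Type u} [Field F] (n : ℕ) : ∀ (V : Type v) [AddCommGroup V] [Module F V]
    [FiniteDimensional F V] (B : LinearMap.BilinForm F V), finrank F V = n → (∀ x, B x x = 0) →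
    (∀ x, (∀ y, B x y = 0) → x = 0) → Even n := by
  induction n using Nat.strong_induction_on with
  | h n ih =>
    intro V _ _ _ B hn halt hB
    rcases Nat.eq_zero_or_pos n with h | h
    · rw [h]; exact Even.zero
    · have hnt : Nontrivial V := by
        apply nontrivial_of_finrank_pos (R := F)
        omega
      have hrefl : ∀ x y, B x y = 0 → B y x = 0 := fun x y h => by
        have := LinearMap.BilinForm.IsAlt.neg_eq (B₁ := B) halt x y
        rw [← this, h, neg_zero]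
      obtain ⟨x, hx⟩ := exists_ne (0 : V)
      obtain ⟨y, hy⟩ : ∃ y, B x y ≠ 0 := by
        by_contra hno
        push Not at hno
        exact hx (hB x hno)
      have hp : HP B x ((B x y)⁻¹ • y) := ⟨hrefl, halt x, by simp [halt y], by simp [hy]⟩
      have h1 := finrank_eq hp
      have h2 := ih (finrank F (perp B x ((B x y)⁻¹ • y))) (by omega) (perp B x ((B x y)⁻¹ • y))
        (B.restrict _) rfl (fun z => halt z) (fun z hz => nondeg hp hB z fun w => hz w)
      rw [← hn, h1]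
      obtain ⟨k, hk⟩ := h2
      exact ⟨k + 1, by omega⟩

/-- the exponent for `Sp_n` -/
def eS (n : ℕ) : ℕ := n / 2 * (n / 2 + 1) / 2

theorem eS_two_mul (m : ℕ) : eS (2 * m) = m * (m + 1) / 2 := by
  unfold eS
  rw [Nat.mul_div_cancel_left _ two_pos]

theorem eS_sup (a b : ℕ) (ha : Even a) (hb : Even b) (ha1 : 1 ≤ a) (hb1 : 1 ≤ b) : eS a + eS b + 1 ≤ eS (a + b) := by
  obtain ⟨i, rfl⟩ := ha.two_dvd
  obtain ⟨j, rfl⟩ := hb.two_dvd
  rw [← mul_add, eS_two_mul, eS_two_mul, eS_two_mul]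
  have h1 := two_mul_half i
  have h2 := two_mul_half j
  have h3 := two_mul_half (i + j)
  have h4 : (i + j) * (i + j + 1) = i * (i + 1) + j * (j + 1) + 2 * (i * j) := by ring
  have h5 : 1 * 1 ≤ i * j := Nat.mul_le_mul (by omega) (by omega)
  omega

theorem eS_one (n : ℕ) (hn : Even n) (a : ℕ) (ha : 1 ≤ a) (han : 2 * a ≤ n) : a ^ 2 / 4 + 1 ≤ eS n := by
  obtain ⟨m, rfl⟩ := hn.two_dvd
  rw [eS_two_mul]
  have h1 := two_mul_half m
  have h2 : a * (a + 1) ≤ m * (m + 1) := Nat.mul_le_mul (by omega) (by omega)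
  have h3 : a * (a + 1) = a ^ 2 + a := by ring
  rcases (by omega : a = 1 ∨ 2 ≤ a) with rfl | h4
  · norm_num at *
    omega
  · have h5 : 2 * a ≤ a ^ 2 := by nlinarith
    omega

theorem eS_two (n : ℕ) (hn : Even n) (d : ℕ) (hd : 1 ≤ d) (hdn : 2 * d ≤ n ^ 2 / 4 + 1) : d ≤ eS n := by
  obtain ⟨m, rfl⟩ := hn.two_dvd
  rw [eS_two_mul]
  have h1 := two_mul_half m
  have h2 : (2 * m) ^ 2 / 4 = m ^ 2 := by
    have : (2 * m) ^ 2 = 4 * m ^ 2 := by ring
    omega
  rw [h2] at hdn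
  have h3 : m * (m + 1) = m ^ 2 + m := by ring
  rcases (by omega : m = 0 ∨ 1 ≤ m) with rfl | h4
  · omega
  · omega

section symp

variable {F : Type u} [Field F] [Finite F] {p : ℕ}
  {V : Type v} [AddCommGroup V] [Module F V] [Finite V] {B : LinearMap.BilinForm F V}
  {A : Type w} [CommGroup A] [Finite A] {ρ : A →* Module.End F V}

theorem symp_both [Fact p.Prime] [CharP F p] (halt : ∀ x, B x x = 0) (hB : ∀ x, (∀ y, B x y = 0) → x = 0)
    (hρ : Function.Injective ρ) (hpres : ∀ g x y, B (ρ g x) (ρ g y) = B x y) {m : ℕ} (hm : 1 ≤ m)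
    (hn : finrank F V = 2 * m) : Nat.card A ≤ 2 * Nat.card F ^ (m * (m + 1) / 2) ∧
      (p = 2 → Nat.card A ≤ (Nat.card F + 1) * Nat.card F ^ (m * (m + 1) / 2 - 1)) := by
  have h := both (F := F) (p := p) (ε := -1) (T := fun V _ _ B _ => ∀ x, B x x = 0)
    (fun V _ _ B Q W h x => h x) (fun n => Even n)
    (fun V _ _ _ B Q halt hB => even_finrank _ V B rfl halt hB) eS eS_sup eS_one eS_two
    (fun V _ _ _ B Q halt A _ _ ρ hP hρ hI hQ => by
      have hEv : Even (finrank F V) := even_finrank _ V B rfl halt hI.nd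
      obtain ⟨k, hk⟩ := hEv.two_dvd
      rw [hk, eS_two_mul]
      exact (symp_aux (p := p) k V hk B halt hI.nd A hP ρ hρ hI.pres).1)
    (2 * m) V B (fun _ => 0) halt hn (by omega) A ρ hρ
    ⟨by ring, fun x y => by
      have := LinearMap.BilinForm.IsAlt.neg_eq (B₁ := B) halt y x
      rw [← this]
      ring, hB, hpres⟩ (fun _ _ => rfl)
  rw [eS_two_mul] at h
  refine ⟨h.1, fun hp => h.2 hp ?_⟩
  intro n hn hn1
  exact (eS_one n hn 1 le_rfl (by
    obtain ⟨k, hk⟩ := hn.two_dvd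
    omega)).trans' (by norm_num)

theorem symp_odd (halt : ∀ x, B x x = 0) (hB : ∀ x, (∀ y, B x y = 0) → x = 0)
    (hρ : Function.Injective ρ) (hpres : ∀ g x y, B (ρ g x) (ρ g y) = B x y) {m : ℕ} (hm : 1 ≤ m)
    (hn : finrank F V = 2 * m) : Nat.card A ≤ 2 * Nat.card F ^ (m * (m + 1) / 2) := by
  obtain ⟨p, hp⟩ := CharP.exists F
  have hpp : Fact p.Prime := ⟨CharP.char_is_prime F p⟩
  exact (symp_both (p := p) halt hB hρ hpres hm hn).1

theorem symp_even [CharP F 2] (halt : ∀ x, B x x = 0) (hB : ∀ x, (∀ y, B x y = 0) → x = 0)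
    (hρ : Function.Injective ρ) (hpres : ∀ g x y, B (ρ g x) (ρ g y) = B x y) {m : ℕ} (hm : 1 ≤ m)
    (hn : finrank F V = 2 * m) : Nat.card A ≤ (Nat.card F + 1) * Nat.card F ^ (m * (m + 1) / 2 - 1) :=
  (symp_both (p := 2) halt hB hρ hpres hm hn).2 rfl

end symp

/-! ### quadratic forms -/

theorem g_sup (a b : ℕ) (ha1 : 1 ≤ a) (hb1 : 1 ≤ b) : g a + g b + 1 ≤ g (a + b) := by
  -- for `b ≤ 7` the first term is the maximum
  have hsmall : ∀ b, 1 ≤ b → b ≤ 7 → g b = b - 1 := by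
    intro b hb hb7
    unfold g
    apply max_eq_left
    interval_cases b <;> norm_num
  have hbig : ∀ b, 8 ≤ b → g b = (b ^ 2 / 4 + 1) / 2 := by
    intro b hb
    unfold g
    apply max_eq_right
    have : 8 * b ≤ b ^ 2 := by nlinarith
    omega
  have hge1 : a + b - 1 ≤ g (a + b) := le_max_left _ _
  have hge2 : ((a + b) ^ 2 / 4 + 1) / 2 ≤ g (a + b) := le_max_right _ _
  have hexp : (a + b) ^ 2 = a ^ 2 + b ^ 2 + 2 * (a * b) := by ring
  rcases (by omega : a ≤ 7 ∨ 8 ≤ a) with ha | ha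
  · rcases (by omega : b ≤ 7 ∨ 8 ≤ b) with hb | hb
    · rw [hsmall a ha1 ha, hsmall b hb1 hb]
      omega
    · rw [hsmall a ha1 ha, hbig b hb]
      have h1 : a * 8 ≤ a * b := Nat.mul_le_mul_left _ hb
      omega
  · rcases (by omega : b ≤ 7 ∨ 8 ≤ b) with hb | hb
    · rw [hsmall b hb1 hb, hbig a ha]
      have h1 : 8 * b ≤ a * b := Nat.mul_le_mul_right _ ha
      omega
    · rw [hbig a ha, hbig b hb]
      have h1 : 8 * 8 ≤ a * b := Nat.mul_le_mul ha hb
      omega

theorem g_one (n : ℕ) (a : ℕ) (ha : 1 ≤ a) (han : 2 * a ≤ n) : a ^ 2 / 4 + 1 ≤ g n := by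
  have hge2 : (n ^ 2 / 4 + 1) / 2 ≤ g n := le_max_right _ _
  refine le_trans ?_ hge2
  have h1 : (2 * a) ^ 2 ≤ n ^ 2 := Nat.pow_le_pow_left han 2
  have h2 : (2 * a) ^ 2 = 4 * a ^ 2 := by ring
  rcases (by omega : a = 1 ∨ 2 ≤ a) with rfl | h4
  · norm_num at *
    omega
  · have h5 : 2 ^ 2 ≤ a ^ 2 := Nat.pow_le_pow_left h4 2
    omega

theorem g_two (n : ℕ) (d : ℕ) (hdn : 2 * d ≤ n ^ 2 / 4 + 1) : d ≤ g n := by
  have hge2 : (n ^ 2 / 4 + 1) / 2 ≤ g n := le_max_right _ _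
  omega

theorem g_even_uni (m : ℕ) (hm : 1 ≤ m) : m * (m - 1) / 2 + 1 ≤ g (2 * m) := by
  have hge2 : ((2 * m) ^ 2 / 4 + 1) / 2 ≤ g (2 * m) := le_max_right _ _
  refine le_trans ?_ hge2
  have h2 : (2 * m) ^ 2 = 4 * m ^ 2 := by ring
  obtain ⟨k, rfl⟩ := Nat.exists_eq_add_of_le hm
  rw [Nat.add_sub_cancel_left]
  have h3 : (1 + k) ^ 2 = (1 + k) * k + k + 1 := by ring
  omega

theorem eO_le_g (n : ℕ) (hn : 1 ≤ n) : eO (n - 2) ≤ g n := by
  have hge1 : n - 1 ≤ g n := le_max_left _ _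
  rcases (by omega : n = 1 ∨ n = 2 ∨ n = 3 ∨ 4 ≤ n) with rfl | rfl | rfl | h
  · simp [eO]
  · simp [eO]
  · simp [eO]
    omega
  · rcases Nat.even_or_odd' n with ⟨m, rfl | rfl⟩
    · rw [eO_even (by omega)]
      exact g_even_uni m (by omega)
    · rw [eO_odd (by omega)]
      rcases (by omega : m = 2 ∨ 3 ≤ m) with rfl | hm
      · norm_num at hge1 ⊢
        omega
      · rw [g_odd hm]
        have h1 := two_mul_half m
        obtain ⟨k, rfl⟩ := Nat.exists_eq_add_of_le hm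
        have h2 : (3 + k) * (3 + k - 1) = (3 + k) * (3 + k + 1) - 2 * (3 + k) := by
          have : 3 + k - 1 = 2 + k := by omega
          rw [this]
          have : (3 + k) * (3 + k + 1) = (3 + k) * (2 + k) + 2 * (3 + k) := by ring
          omega
        have h3 : (3 + k) * 4 ≤ (3 + k) * (3 + k + 1) := Nat.mul_le_mul_left _ (by omega)
        rw [h2]
        omega

section orth

variable {F : Type u} [Field F] [Finite F]
  {V : Type v} [AddCommGroup V] [Module F V] [Finite V] {Q : QuadraticForm F V}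
  {A : Type w} [CommGroup A] [Finite A] {ρ : A →* Module.End F V}

/-- the class of quadratic forms -/
def TO (F : Type u) [Field F] (V : Type v) [AddCommGroup V] [Module F V] (B : LinearMap.BilinForm F V) (Q : V → F) :
    Prop := ∃ Q' : QuadraticForm F V, (∀ x, Q' x = Q x) ∧ B = QuadraticMap.polarBilin Q'

theorem TO_restr {V : Type v} [AddCommGroup V] [Module F V] {B : LinearMap.BilinForm F V} {Q : V → F}
    (W : Submodule F V) (h : TO F V B Q) : TO F W (B.restrict W) (fun x => Q x) := by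
  obtain ⟨Q', h1, rfl⟩ := h
  refine ⟨Q'.comp W.subtype, fun x => h1 x, ?_⟩
  ext x y
  rfl

theorem orth_isom (hB : ∀ x, (∀ y, QuadraticMap.polar Q x y = 0) → x = 0) (hQ : ∀ g x, Q (ρ g x) = Q x) :
    Isom 1 (QuadraticMap.polarBilin Q) ρ :=
  ⟨one_mul 1, fun x y => by
    rw [one_mul, QuadraticMap.polarBilin_apply_apply, QuadraticMap.polarBilin_apply_apply, QuadraticMap.polar_comm],
    fun x hx => hB x hx, quad_pres hQ⟩

theorem orth_odd (hF : (2 : F) ≠ 0) (hB : ∀ x, (∀ y, QuadraticMap.polar Q x y = 0) → x = 0)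
    (hρ : Function.Injective ρ) (hQ : ∀ g x, Q (ρ g x) = Q x) (hn : 1 ≤ finrank F V) :
    Nat.card A ≤ 2 * Nat.card F ^ g (finrank F V) := by
  obtain ⟨p, hp⟩ := CharP.exists F
  have hpp : Fact p.Prime := ⟨CharP.char_is_prime F p⟩
  exact (both (F := F) (p := p) (ε := 1) (T := fun V _ _ B Q => TO F V B Q)
    (fun V _ _ B Q W h => TO_restr W h) (fun _ => True) (fun V _ _ _ B Q _ _ => trivial) g
    (fun a b _ _ => g_sup a b) (fun n _ => g_one n) (fun n _ d _ => g_two n d)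
    (fun V _ _ _ B Q hT A _ _ ρ hP hρ hI hQ => by
      obtain ⟨Q', h1, rfl⟩ := hT
      have hnd := hI.nd
      rcases Nat.eq_zero_or_pos (finrank F V) with h0 | h0
      · have : Subsingleton V := finrank_zero_iff.1 h0
        rw [card_le_one_of_subsingleton hρ]
        exact Nat.one_le_pow _ _ Nat.card_pos
      · refine (orthOdd_aux (p := p) hF _ V rfl Q' (fun x hx => hnd x hx) A hP ρ hρ
          (fun g x => by rw [h1, h1]; exact hQ g x)).1.trans (Nat.pow_le_pow_right Nat.card_pos (eO_le_g _ h0)))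
    (finrank F V) V (QuadraticMap.polarBilin Q) Q ⟨Q, fun _ => rfl, rfl⟩ rfl hn A ρ hρ (orth_isom hB hQ) hQ).1

theorem orth_even [CharP F 2] (hB : ∀ x, (∀ y, QuadraticMap.polar Q x y = 0) → x = 0)
    (hρ : Function.Injective ρ) (hQ : ∀ g x, Q (ρ g x) = Q x) (hn : 1 ≤ finrank F V) :
    Nat.card A ≤ (Nat.card F + 1) * Nat.card F ^ (g (finrank F V) - 1) := by
  have halt : ∀ (V : Type v) [AddCommGroup V] [Module F V] (Q : QuadraticForm F V) (x : V),
      QuadraticMap.polarBilin Q x x = 0 := by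
    intro V _ _ Q x
    have h2 : (2 : F) = 0 := by
      have := CharP.cast_eq_zero F 2
      exact_mod_cast this
    rw [QuadraticMap.polarBilin_apply_apply, QuadraticMap.polar_self, two_nsmul, ← two_mul, h2, zero_mul]
  exact (both (F := F) (p := 2) (ε := 1) (T := fun V _ _ B Q => TO F V B Q)
    (fun V _ _ B Q W h => TO_restr W h) (fun n => Even n) (fun V _ _ _ B Q hT hnd => by
      obtain ⟨Q', h1, rfl⟩ := hT
      exact even_finrank _ V (QuadraticMap.polarBilin Q') rfl (halt V Q') hnd) g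
    (fun a b _ _ => g_sup a b) (fun n _ => g_one n) (fun n _ d _ => g_two n d)
    (fun V _ _ _ B Q hT A _ _ ρ hP hρ hI hQ => by
      obtain ⟨Q', h1, rfl⟩ := hT
      have hnd := hI.nd
      rcases Nat.eq_zero_or_pos (finrank F V) with h0 | h0
      · have : Subsingleton V := finrank_zero_iff.1 h0
        rw [card_le_one_of_subsingleton hρ]
        exact Nat.one_le_pow _ _ Nat.card_pos
      · obtain ⟨m, hm⟩ := (even_finrank _ V (QuadraticMap.polarBilin Q') rfl (halt V Q') hnd).two_dvd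
        rw [hm]
        exact (orthEven_aux m V hm Q' (fun x hx => hnd x hx) A hP ρ hρ
          (fun g x => by rw [h1, h1]; exact hQ g x)).1.trans
            (Nat.pow_le_pow_right Nat.card_pos (g_even_uni _ (by omega))))
    (finrank F V) V (QuadraticMap.polarBilin Q) Q ⟨Q, fun _ => rfl, rfl⟩ rfl hn A ρ hρ (orth_isom hB hQ) hQ).2 rfl
    (fun n hn hn1 => (g_one n 1 le_rfl (by
      obtain ⟨k, hk⟩ := hn.two_dvd
      omega)).trans' (by norm_num))

end orth

end Cfsg.Agent.H152.AbIso
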