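import Cfsg.Agent.H152.AbIso
import Cfsg.Agent.H498.Ab.Lift

/-!
# Abelian subgroups of `H / Z(H)`, `H` a group of isometries (helper152, for S2501)
-/

set_option autoImplicit false
set_option linter.unusedSectionVars false
set_option linter.style.haveILetI false
set_option linter.deprecated false

namespace Cfsg.Agent.H152.AbRow

open Module Cfsg.Agent.H498.Ab Cfsg.Agent.H498.Ab.Schur Cfsg.Agent.H498.Ab.Inv Cfsg.Agent.H498.Ab.Lift
  Cfsg.Agent.H152.AbDesc Cfsg.Agent.H152.AbBase Cfsg.Agent.H152.AbForm Cfsg.Agent.H152.AbIso Subgroup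

universe u v w

section dim

variable {F : Type u} [Field F] [Finite F] {V : Type v} [AddCommGroup V] [Module F V] [Finite V] {A : Type w}
  [CommGroup A] [Finite A] {ρ : A →* Module.End F V}

/-- **The bound by the dimension of the algebra.** -/
theorem card_le_dim [Nontrivial V] (hρ : Function.Injective ρ) {ε : F}
    {B : LinearMap.BilinForm F V} (hI : Isom ε B ρ) :
    Nat.card A ≤ 2 * Nat.card F ^ (finrank F (alg ρ) - 1) := by
  letI := commRing ρ
  obtain ⟨s, hs, hF, hadj, hsg⟩ := exists_adj hI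
  have hfa : FaithfulSMul (alg ρ) V := ⟨fun {x y} h => Subtype.ext (LinearMap.ext h)⟩
  have hfinE : Finite (Module.End F V) := Finite.of_injective (fun f : Module.End F V => (f : V → V)) DFunLike.coe_injective
  have hfinC : Finite (alg ρ) := inferInstance
  have hD : Nat.card (alg ρ) = Nat.card F ^ finrank F (alg ρ) := Module.natCard_eq_pow_finrank
  have hV : Nat.card V = Nat.card F ^ finrank F V := Module.natCard_eq_pow_finrank
  have hU : ∀ g, (⟨ρ g, mem_alg ρ g⟩ : alg ρ) ∈ U s := by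
    intro g
    show (⟨ρ g, mem_alg ρ g⟩ : alg ρ) * s ⟨ρ g, mem_alg ρ g⟩ = 1
    apply Subtype.ext
    show ρ g * (s ⟨ρ g, mem_alg ρ g⟩).1 = 1
    rw [hsg, ← map_mul, mul_inv_cancel, map_one]
  have hAU : Nat.card A ≤ Nat.card (U s) := by
    refine Nat.card_le_card_of_injective (fun g : A => (⟨⟨ρ g, mem_alg ρ g⟩, hU g⟩ : U s)) ?_
    intro g g' h
    exact hρ (congrArg (fun x => (x.1 : alg ρ).1) h)
  exact hAU.trans (card_U_two (F := F) (alg ρ) s V hs hF _ _ hD hV)

end dim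

section lift

variable {F : Type u} [Field F] [Finite F] {V : Type v} [AddCommGroup V] [Module F V] [Finite V] [Nontrivial V]
  {H : Type w} [Group H] [Finite H] {ρ : H →* Module.End F V} (hρ : Function.Injective ρ) {ε : F}
  {B : LinearMap.BilinForm F V} (heps : ε * ε = 1) (hsym : ∀ x y, B x y = ε * B y x)
  (hnd : ∀ x, (∀ y, B x y = 0) → x = 0) (hpres : ∀ g x y, B (ρ g x) (ρ g y) = B x y)
  (hZ : ∀ z ∈ center H, ∃ c : F, ρ z = c • 1)

include hnd hpres hZ in
/-- central elements are `± 1` -/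
theorem center_sq {z : H} (hz : z ∈ center H) : ∃ c : F, ρ z = c • 1 ∧ c * c = 1 := by
  obtain ⟨c, hc⟩ := hZ z hz
  refine ⟨c, hc, ?_⟩
  obtain ⟨x, hx⟩ := exists_ne (0 : V)
  obtain ⟨y, hy⟩ : ∃ y, B x y ≠ 0 := by
    by_contra hno
    push Not at hno
    exact hx (hnd x hno)
  have h1 := hpres z x y
  rw [hc] at h1
  have h2 : c * c * B x y = 1 * B x y := by
    rw [one_mul]
    calc c * c * B x y = B ((c • (1 : Module.End F V)) x) ((c • (1 : Module.End F V)) y) := by
          simp [mul_assoc]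
      _ = _ := h1
  exact mul_right_cancel₀ hy h2

include hρ heps hsym hnd hpres hZ in
/-- **The lift.** -/
theorem iso_lift (A : Subgroup (H ⧸ center H)) (hA : IsMulCommutative A) :
    (∃ Z : Subgroup H, IsMulCommutative Z ∧ Nat.card A * Nat.card (center H) ≤ Nat.card Z) ∨
    (∃ h D : ℕ, 2 ≤ h ∧ 1 ≤ D ∧ h * D ≤ (finrank F V) ^ 2 / 4 + 1 ∧ (2 : F) ≠ 0 ∧
      Nat.card A ≤ h ^ 2 * Nat.card F ^ (D - 1)) := by
  have hfinE : Finite (Module.End F V) := Finite.of_injective (fun f : Module.End F V => (f : V → V)) DFunLike.coe_injective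
  obtain ⟨Z, B₁, h, h1, hZB, hcZ, hB, hcard, hadj, hexp⟩ := lift (F := F) ρ hρ hZ A hA
  have hBc := comm_iff.1 hB
  have hS : ∀ a ∈ ρ '' (B₁ : Set H), ∀ b ∈ ρ '' (B₁ : Set H), a * b = b * a := by
    rintro _ ⟨a, ha, rfl⟩ _ ⟨b, hb, rfl⟩
    rw [← map_mul, ← map_mul, hBc a ha b hb]
  have hZc : IsMulCommutative Z := comm_of_le hZB hB
  by_cases hh : h = 1
  · left
    subst hh
    exact ⟨Z, hZc, by simpa using hcard⟩
  · right
    have hV : Nat.card V = Nat.card F ^ finrank F V := Module.natCard_eq_pow_finrank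
    have hfa : FaithfulSMul (Module.End F V) V := ⟨fun h => LinearMap.ext h⟩
    have hschur := adjoin_schur (F := F) V _ hS hV
    let _ : CommGroup Z := { (inferInstance : Group Z) with mul_comm := fun a b => hZc.is_comm.comm a b }
    have hI : Isom ε B (ρ.comp Z.subtype) := ⟨heps, hsym, hnd, fun g x y => hpres g x y⟩
    have hdim := card_le_dim (hρ.comp Z.subtype_injective : Function.Injective (ρ.comp Z.subtype)) hI
    have hset : Set.range (ρ.comp Z.subtype) = ρ '' (Z : Set H) := by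
      ext x
      constructor
      · rintro ⟨z, rfl⟩
        exact ⟨z, z.2, rfl⟩
      · rintro ⟨z, hz, rfl⟩
        exact ⟨⟨z, hz⟩, rfl⟩
    have halg : alg (ρ.comp Z.subtype) = Algebra.adjoin F (ρ '' (Z : Set H)) := by
      unfold alg
      rw [hset]
    rw [halg] at hdim
    set D := finrank F (Algebra.adjoin F (ρ '' (Z : Set H))) with hD
    have hC1 : Nat.card (Algebra.adjoin F (ρ '' (Z : Set H))) = Nat.card F ^ D := card_adjoin_eq _
    have hQ : 1 < Nat.card F := Finite.one_lt_card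
    have hD1 : 1 ≤ D := by
      rcases Nat.eq_zero_or_pos D with h0 | h0
      · exfalso
        rw [h0, pow_zero] at hC1
        have : Nontrivial (Algebra.adjoin F (ρ '' (Z : Set H))) := inferInstance
        have : 1 < Nat.card (Algebra.adjoin F (ρ '' (Z : Set H))) := Finite.one_lt_card
        omega
      · exact h0
    have hprime : ∃ r : ℕ, r.Prime ∧ r ∣ h := Nat.exists_prime_and_dvd hh
    obtain ⟨r, hr, hrh⟩ := hprime
    -- the centre is not trivial
    have hcen : center H ≠ ⊥ := by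
      intro hbot
      have h2 := hexp 1 (fun z hz => by
        rw [hbot, Subgroup.mem_bot] at hz
        rw [hz, one_pow]) r hr hrh
      exact hr.one_lt.ne' (Nat.dvd_one.1 h2)
    refine ⟨h, D, by omega, hD1, ?_, ?_, ?_⟩
    · have h4 := hadj.trans hschur
      rw [hC1, ← pow_mul] at h4
      rw [mul_comm]
      exact (Nat.pow_le_pow_iff_right hQ).1 h4
    · intro h2
      apply hcen
      rw [eq_bot_iff]
      intro z hz
      rw [Subgroup.mem_bot]
      obtain ⟨c, hc, hcc⟩ := center_sq hnd hpres hZ hz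
      have h3 : c = 1 := by
        have h4 : (c - 1) * (c - 1) = 0 := by linear_combination hcc - (c - 1) * h2
        have h5 := mul_self_eq_zero.1 h4
        exact sub_eq_zero.1 h5
      apply hρ
      rw [hc, h3, one_smul, map_one]
    · have h2 : 2 ≤ Nat.card (center H) := by
        have : Nontrivial (center H) := (Subgroup.nontrivial_iff_ne_bot _).2 hcen
        exact Finite.one_lt_card
      have h3 : Nat.card A * 2 ≤ h ^ 2 * (2 * Nat.card F ^ (D - 1)) :=
        (Nat.mul_le_mul_left _ h2).trans (hcard.trans (Nat.mul_le_mul_left _ hdim))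
      have h4 : Nat.card A * 2 ≤ (h ^ 2 * Nat.card F ^ (D - 1)) * 2 := by
        calc _ ≤ _ := h3
          _ = _ := by ring
      exact Nat.le_of_mul_le_mul_right h4 two_pos

end lift

/-! ### arithmetic -/

theorem sq_le_four {h : ℕ} (h2 : 2 ≤ h) : h ^ 2 ≤ 4 * 3 ^ (h - 2) := by
  obtain ⟨k, rfl⟩ := Nat.exists_eq_add_of_le h2
  rw [Nat.add_sub_cancel_left]
  clear h2
  induction k with
  | zero => norm_num
  | succ k ih =>
    rw [pow_succ 3 k]
    have h : (2 + (k + 1)) ^ 2 ≤ 3 * (2 + k) ^ 2 := by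
      ring_nf
      nlinarith [Nat.zero_le (k ^ 2)]
    linarith

/-- `D ≥ 2` -/
theorem heis_two {q h D E : ℕ} (hq : 3 ≤ q) (h2 : 2 ≤ h) (hD : 2 ≤ D) (hhD : h * D ≤ E + 1) (hE : 3 ≤ E) :
    h ^ 2 * q ^ (D - 1) ≤ 4 * q ^ ((E + 1) / 2 - 1) := by
  have h1 : h ^ 2 * q ^ (D - 1) ≤ 4 * q ^ (h - 2 + (D - 1)) := by
    rw [pow_add]
    calc h ^ 2 * q ^ (D - 1) ≤ 4 * 3 ^ (h - 2) * q ^ (D - 1) := Nat.mul_le_mul_right _ (sq_le_four h2)
      _ ≤ 4 * q ^ (h - 2) * q ^ (D - 1) :=
        Nat.mul_le_mul_right _ (Nat.mul_le_mul_left _ (Nat.pow_le_pow_left hq _))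
      _ = _ := by ring
  refine h1.trans (Nat.mul_le_mul_left _ (Nat.pow_le_pow_right (by omega) ?_))
  obtain ⟨a, rfl⟩ := Nat.exists_eq_add_of_le h2
  obtain ⟨b, rfl⟩ := Nat.exists_eq_add_of_le hD
  have : (2 + a) * (2 + b) = 4 + 2 * a + 2 * b + a * b := by ring
  have := Nat.zero_le (a * b)
  omega

theorem sq_le_pow {k : ℕ} (hk : 6 ≤ k) : (2 * k + 1) ^ 2 ≤ 3 ^ k := by
  induction k, hk using Nat.le_induction with
  | base => norm_num
  | succ k hk ih =>
    rw [pow_succ 3]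
    nlinarith

/-- orthogonal case -/
theorem heis_o {q h D E : ℕ} (hq : 3 ≤ q) (h2 : 2 ≤ h) (hD : 1 ≤ D) (hhD : h * D ≤ E + 1) (hE : 12 ≤ E) :
    h ^ 2 * q ^ (D - 1) ≤ 2 * q ^ ((E + 1) / 2) := by
  rcases (by omega : D = 1 ∨ 2 ≤ D) with rfl | hD2
  · rw [mul_one] at hhD
    rw [Nat.sub_self, pow_zero, mul_one]
    obtain ⟨k, hk⟩ : ∃ k, (E + 1) / 2 = k := ⟨_, rfl⟩
    rw [hk]
    calc h ^ 2 ≤ (2 * k + 1) ^ 2 := Nat.pow_le_pow_left (by omega) 2
      _ ≤ 3 ^ k := sq_le_pow (by omega)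
      _ ≤ q ^ k := Nat.pow_le_pow_left hq k
      _ ≤ 2 * q ^ k := by omega
  · refine (heis_two hq h2 hD2 hhD (by omega)).trans ?_
    obtain ⟨k, hk⟩ : ∃ k, (E + 1) / 2 = k + 1 := ⟨(E + 1) / 2 - 1, by omega⟩
    rw [hk, Nat.add_sub_cancel, pow_succ]
    nlinarith [Nat.zero_le (q ^ k)]

/-- symplectic case -/
theorem heis_sp {q h D m : ℕ} (hq : 3 ≤ q) (h2 : 2 ≤ h) (hD : 1 ≤ D) (hhD : h * D ≤ m ^ 2 + 1) (hm : 2 ≤ m) :
    h ^ 2 * q ^ (D - 1) ≤ q ^ (m * (m + 1) / 2) := by
  have h0 := AbNum.two_mul_half m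
  rcases (by omega : D = 1 ∨ 2 ≤ D) with rfl | hD2
  · rw [mul_one] at hhD
    rw [Nat.sub_self, pow_zero, mul_one]
    have key : ∀ m : ℕ, 2 ≤ m → (m ^ 2 + 1) ^ 2 ≤ 3 ^ (m * (m + 1) / 2) := by
      intro m hm
      rcases (by omega : m = 2 ∨ m = 3 ∨ 4 ≤ m) with rfl | rfl | h4
      · norm_num
      · norm_num
      · have h5 := AbNum.two_mul_half m
        have h6 : m ^ 2 ≤ 2 * (m * (m + 1) / 2) := by rw [h5]; nlinarith
        have h7 : 4 * 5 ≤ m * (m + 1) := Nat.mul_le_mul h4 (by omega)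
        calc (m ^ 2 + 1) ^ 2 ≤ (2 * (m * (m + 1) / 2) + 1) ^ 2 := Nat.pow_le_pow_left (by omega) 2
          _ ≤ _ := sq_le_pow (by omega)
    calc h ^ 2 ≤ (m ^ 2 + 1) ^ 2 := Nat.pow_le_pow_left hhD 2
      _ ≤ 3 ^ (m * (m + 1) / 2) := key m hm
      _ ≤ _ := Nat.pow_le_pow_left hq _
  · have h4 : 2 ^ 2 ≤ m ^ 2 := Nat.pow_le_pow_left hm 2
    refine (heis_two hq h2 hD2 hhD (by omega)).trans ?_
    have h5 : 4 * q ^ ((m ^ 2 + 1) / 2 - 1) ≤ q ^ ((m ^ 2 + 1) / 2 - 1 + 2) := by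
      rw [pow_add, mul_comm]
      exact Nat.mul_le_mul_left _ (by nlinarith)
    refine h5.trans (Nat.pow_le_pow_right (by omega) ?_)
    have h6 : m * (m + 1) = m ^ 2 + m := by ring
    rcases (by omega : m = 2 ∨ 3 ≤ m) with rfl | hm3
    · norm_num
    · omega

/-! ### the final forms -/

section final

variable {F : Type u} [Field F] [Finite F] {V : Type v} [AddCommGroup V] [Module F V] [Finite V]
  {H : Type w} [Group H] [Finite H] {ρ : H →* Module.End F V} (hρ : Function.Injective ρ)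

theorem quad_pres' {Q : QuadraticForm F V} (hQ : ∀ g x, Q (ρ g x) = Q x) (g : H) (x y : V) :
    QuadraticMap.polarBilin Q (ρ g x) (ρ g y) = QuadraticMap.polarBilin Q x y := by
  rw [QuadraticMap.polarBilin_apply_apply, QuadraticMap.polarBilin_apply_apply, QuadraticMap.polar, QuadraticMap.polar,
    ← map_add, hQ, hQ, hQ]

include hρ in
/-- symplectic, `q` odd -/
theorem symp_row_odd {B : LinearMap.BilinForm F V} (halt : ∀ x, B x x = 0) (hnd : ∀ x, (∀ y, B x y = 0) → x = 0)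
    (hpres : ∀ g x y, B (ρ g x) (ρ g y) = B x y) (hZ : ∀ z ∈ center H, ∃ c : F, ρ z = c • 1)
    (hcen : Nat.card (center H) = 2) (hq : 3 ≤ Nat.card F) {m : ℕ} (hm : 2 ≤ m) (hn : finrank F V = 2 * m)
    (A : Subgroup (H ⧸ center H)) (hA : IsMulCommutative A) :
    Nat.card A ≤ Nat.card F ^ (m * (m + 1) / 2) := by
  have : Nontrivial V := nontrivial_of_finrank_pos (R := F) (by omega)
  have hsym : ∀ x y, B x y = -1 * B y x := fun x y => by
    have := LinearMap.BilinForm.IsAlt.neg_eq (B₁ := B) halt y x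
    rw [← this]
    ring
  rcases iso_lift hρ (by ring) hsym hnd hpres hZ A hA with ⟨Z, hZc, hZA⟩ | ⟨h, D, h2, hD, hhD, _, hAh⟩
  · let _ : CommGroup Z := { (inferInstance : Group Z) with mul_comm := fun a b => hZc.is_comm.comm a b }
    have h1 := symp_odd (A := Z) (ρ := ρ.comp Z.subtype) halt hnd (hρ.comp Z.subtype_injective)
      (fun g x y => hpres g x y) (by omega : 1 ≤ m) hn
    rw [hcen] at hZA
    omega
  · refine hAh.trans (heis_sp hq h2 hD ?_ hm)
    rw [hn] at hhD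
    have : (2 * m) ^ 2 = 4 * m ^ 2 := by ring
    omega

include hρ in
/-- symplectic, `q` even -/
theorem symp_row_even [CharP F 2] {B : LinearMap.BilinForm F V} (halt : ∀ x, B x x = 0)
    (hnd : ∀ x, (∀ y, B x y = 0) → x = 0)
    (hpres : ∀ g x y, B (ρ g x) (ρ g y) = B x y) (hZ : ∀ z ∈ center H, ∃ c : F, ρ z = c • 1)
    {m : ℕ} (hm : 2 ≤ m) (hn : finrank F V = 2 * m)
    (A : Subgroup (H ⧸ center H)) (hA : IsMulCommutative A) :
    Nat.card A ≤ (Nat.card F + 1) * Nat.card F ^ (m * (m + 1) / 2 - 1) := by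
  have : Nontrivial V := nontrivial_of_finrank_pos (R := F) (by omega)
  have hsym : ∀ x y, B x y = -1 * B y x := fun x y => by
    have := LinearMap.BilinForm.IsAlt.neg_eq (B₁ := B) halt y x
    rw [← this]
    ring
  have h20 : (2 : F) = 0 := by
    have := CharP.cast_eq_zero F 2
    exact_mod_cast this
  rcases iso_lift hρ (by ring) hsym hnd hpres hZ A hA with ⟨Z, hZc, hZA⟩ | ⟨h, D, h2, hD, hhD, h2', hAh⟩
  · let _ : CommGroup Z := { (inferInstance : Group Z) with mul_comm := fun a b => hZc.is_comm.comm a b }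
    have h1 := symp_even (A := Z) (ρ := ρ.comp Z.subtype) halt hnd (hρ.comp Z.subtype_injective)
      (fun g x y => hpres g x y) (by omega : 1 ≤ m) hn
    have h3 : Nat.card A * 1 ≤ Nat.card A * Nat.card (center H) := Nat.mul_le_mul_left _ Nat.card_pos
    omega
  · exact absurd h20 h2'

include hρ in
/-- orthogonal, `q` odd -/
theorem orth_row_odd {Q : QuadraticForm F V} (h20 : (2 : F) ≠ 0)
    (hnd : ∀ x, (∀ y, QuadraticMap.polar Q x y = 0) → x = 0)
    (hQ : ∀ g x, Q (ρ g x) = Q x) (hZ : ∀ z ∈ center H, ∃ c : F, ρ z = c • 1)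
    (hq : 3 ≤ Nat.card F) (hn : 7 ≤ finrank F V)
    (A : Subgroup (H ⧸ center H)) (hA : IsMulCommutative A) :
    Nat.card A ≤ 2 * Nat.card F ^ AbNum.g (finrank F V) := by
  have : Nontrivial V := nontrivial_of_finrank_pos (R := F) (by omega)
  rcases iso_lift hρ (ε := 1) (B := QuadraticMap.polarBilin Q) (by ring) (fun x y => by
    rw [one_mul, QuadraticMap.polarBilin_apply_apply, QuadraticMap.polarBilin_apply_apply, QuadraticMap.polar_comm])
    (fun x hx => hnd x hx) (quad_pres' hQ) hZ A hA with ⟨Z, hZc, hZA⟩ | ⟨h, D, h2, hD, hhD, h2', hAh⟩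
  · let _ : CommGroup Z := { (inferInstance : Group Z) with mul_comm := fun a b => hZc.is_comm.comm a b }
    have h1 := orth_odd (A := Z) (ρ := ρ.comp Z.subtype) h20 hnd (hρ.comp Z.subtype_injective)
      (fun g x => hQ g x) (by omega)
    have h3 : Nat.card A * 1 ≤ Nat.card A * Nat.card (center H) := Nat.mul_le_mul_left _ Nat.card_pos
    omega
  · have h4 : 7 ^ 2 ≤ finrank F V ^ 2 := Nat.pow_le_pow_left hn 2
    refine (hAh.trans (heis_o hq h2 hD hhD (by omega))).trans ?_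
    exact Nat.mul_le_mul_left _ (Nat.pow_le_pow_right (by omega) (le_max_right _ _))

include hρ in
/-- orthogonal, `q` even -/
theorem orth_row_even [CharP F 2] {Q : QuadraticForm F V}
    (hnd : ∀ x, (∀ y, QuadraticMap.polar Q x y = 0) → x = 0)
    (hQ : ∀ g x, Q (ρ g x) = Q x) (hZ : ∀ z ∈ center H, ∃ c : F, ρ z = c • 1)
    (hn : 1 ≤ finrank F V) (A : Subgroup (H ⧸ center H)) (hA : IsMulCommutative A) :
    Nat.card A ≤ (Nat.card F + 1) * Nat.card F ^ (AbNum.g (finrank F V) - 1) := by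
  have : Nontrivial V := nontrivial_of_finrank_pos (R := F) (by omega)
  have h20 : (2 : F) = 0 := by
    have := CharP.cast_eq_zero F 2
    exact_mod_cast this
  rcases iso_lift hρ (ε := 1) (B := QuadraticMap.polarBilin Q) (by ring) (fun x y => by
    rw [one_mul, QuadraticMap.polarBilin_apply_apply, QuadraticMap.polarBilin_apply_apply, QuadraticMap.polar_comm])
    (fun x hx => hnd x hx) (quad_pres' hQ) hZ A hA with ⟨Z, hZc, hZA⟩ | ⟨h, D, h2, hD, hhD, h2', hAh⟩
  · let _ : CommGroup Z := { (inferInstance : Group Z) with mul_comm := fun a b => hZc.is_comm.comm a b }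
    have h1 := orth_even (A := Z) (ρ := ρ.comp Z.subtype) hnd (hρ.comp Z.subtype_injective)
      (fun g x => hQ g x) hn
    have h3 : Nat.card A * 1 ≤ Nat.card A * Nat.card (center H) := Nat.mul_le_mul_left _ Nat.card_pos
    omega
  · exact absurd h20 h2'

end final

end Cfsg.Agent.H152.AbRow
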